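import Groth.Agent.AlgSpDec.AffineClassQuot
import Groth.Agent.AlgSpDec.FreeQuotSep
import Groth.Agent.SGA1Q.SigmaFinite
import Groth.Agent.EtFound.Descent
import Groth.Agent.S10212

/-!
# The quotient of an invariant affine chart by a free finite group action is a chart
-/

set_option backward.isDefEq.respectTransparency false
set_option backward.isDefEq.respectTransparency.types false

universe u

open CategoryTheory Limits AlgebraicGeometry AlgSp Groth.Agent.AlgSpLib Groth.Agent.AlgSpPts

namespace Groth.Agent.AlgSpMS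

variable {S : Scheme.{u}} {X : Sp S} {A : Over S} [IsAffine A.left] {G : Type u} [Group G] [Finite G]

theorem exists_quotient_chart (hX : IsAlgSpace X) (ρ : G →* Aut A)
    (hfree : ∀ (g : G) (x : A.left), g ≠ 1 →
      A.left.fromSpecResidueField x ≫ (ρ g).hom.left ≠ A.left.fromSpecResidueField x)
    {p : (yon S).obj A ⟶ X} (hp : RepWith @Etale p) (hinv : ∀ g, (yon S).map (ρ g).hom ≫ p = p) :
    ∃ (M : Over S) (q : A ⟶ M) (p' : (yon S).obj M ⟶ X),
      (∀ g, (ρ g).hom ≫ q = q) ∧ (yon S).map q ≫ p' = p ∧ RepWith @Etale p' := by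
  let c : Cofan (fun _ : G => A) := Cofan.mk (∐ fun _ : G => A) (Sigma.ι _)
  let hc : IsColimit c := coproductIsCoproduct fun _ : G => A
  let s : c.pt ⟶ A := Sigma.desc fun _ => 𝟙 A
  let t : c.pt ⟶ A := Sigma.desc fun g => (ρ g).hom
  have hs : ∀ g, c.inj g ≫ s = 𝟙 A := fun g => Sigma.ι_desc _ g
  have ht : ∀ g, c.inj g ≫ t = (ρ g).hom := fun g => Sigma.ι_desc _ g
  have H := AlgSpDec.FreeAction.isEtaleEqvRel hfree hc hs ht
  have := H.etale_left
  have : Surjective s.left := ⟨fun u => ⟨(c.inj 1).left u, by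
    rw [← Scheme.Hom.comp_apply, ← Over.comp_left, hs]; rfl⟩⟩
  have hfin : IsFinite s.left := by
    obtain ⟨e, he⟩ := AlgSpDec.FreeAction.exists_iso hc
    have h2 : IsFinite (Sigma.desc fun _ : G => 𝟙 A.left) :=
      SGA1Q.isFinite_sigmaDesc _ fun _ => inferInstance
    have : s.left = e.inv ≫ Sigma.desc fun _ : G => 𝟙 A.left := by
      rw [Iso.eq_inv_comp]
      refine Sigma.hom_ext _ _ fun g => ?_
      rw [← Category.assoc, he, ← Over.comp_left, hs, Sigma.ι_desc]; rfl
    rw [this]
    infer_instance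
  let Q : Sp S := QuotSh.quot Scheme.fppfPrecoverage s t
  let q₀ : (yon S).obj A ⟶ Q := quotMap s t
  have : Sheaf.IsLocallySurjective q₀ := by
    have : Epi (QuotSh.quotπ Scheme.fppfPrecoverage s t) := by
      unfold QuotSh.quotπ
      infer_instance
    exact (CategoryTheory.Sheaf.isLocallySurjective_iff_epi (quotMap s t)).2 (epi_comp _ _)
  have sq : IsPullback ((yon S).map t) ((yon S).map s) q₀ q₀ := isPullback_quotMap H.toIsEqvRel
  have hr : Representable q₀ := AlgSpDec.representable_of_kernelPair sq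
  have := isLocalAtTarget_fppf (@Etale : MorphismProperty Scheme.{u})
  have := isLocalAtTarget_fppf (@Surjective : MorphismProperty Scheme.{u})
  have := EtFound.fpqc_isFinite.{u}
  have := isLocalAtTarget_fppf (@IsFinite : MorphismProperty Scheme.{u})
  have hqe : RepWith @Etale q₀ :=
    repWith_of_locallySurjective hr _ sq @Etale ((repWith_yon_map_iff _ _).2 ‹Etale s.left›)
  have hqs : RepWith @Surjective q₀ :=
    repWith_of_locallySurjective hr _ sq @Surjective ((repWith_yon_map_iff _ _).2 ‹Surjective s.left›)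
  have hqf : RepWith @IsFinite q₀ :=
    repWith_of_locallySurjective hr _ sq @IsFinite ((repWith_yon_map_iff _ _).2 hfin)
  obtain ⟨M, ⟨e⟩⟩ := AlgSpDec.exists_iso_of_affine_finite_etale q₀ hqe hqf hqs
  -- descent of the chart
  have sqp : IsPullback ((yon S).map (hp.rep.fst' p)) ((yon S).map (hp.rep.snd p)) p p :=
    hp.rep.isPullback' p
  choose l hlt hls using fun g : G => show ∃ l : A ⟶ hp.rep.pullback p,
      l ≫ hp.rep.fst' p = (ρ g).hom ∧ l ≫ hp.rep.snd p = 𝟙 A by
    obtain ⟨l, hl⟩ := (yon S).map_surjective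
      (sqp.lift ((yon S).map (ρ g).hom) (𝟙 _) (by rw [hinv, Category.id_comp]))
    exact ⟨l, (yon S).map_injective (by rw [Functor.map_comp, hl, IsPullback.lift_fst]),
      (yon S).map_injective (by rw [Functor.map_comp, hl, IsPullback.lift_snd, CategoryTheory.Functor.map_id])⟩
  have hts : (yon S).map t ≫ p = (yon S).map s ≫ p := by
    rw [show t = Sigma.desc l ≫ hp.rep.fst' p from Sigma.hom_ext _ _ fun g => by
        rw [Sigma.ι_desc_assoc, hlt]; exact ht g,
      show s = Sigma.desc l ≫ hp.rep.snd p from Sigma.hom_ext _ _ fun g => by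
        rw [Sigma.ι_desc_assoc, hls]; exact hs g,
      Functor.map_comp, Functor.map_comp, Category.assoc, Category.assoc, sqp.w]
  have : Epi q₀ := (Sheaf.isLocallySurjective_iff_epi q₀).1 inferInstance
  have : IsRegularEpi q₀ := IsRegularEpiCategory.regularEpiOfEpi _
  have : EffectiveEpi q₀ := inferInstance
  obtain ⟨d, hd⟩ : ∃ d, q₀ ≫ d = p := by
    let hcol := isColimitCoforkOfEffectiveEpi q₀ sq.cone sq.isLimit
    exact ⟨(Cofork.IsColimit.desc' hcol p hts).1, (Cofork.IsColimit.desc' hcol p hts).2⟩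
  obtain ⟨q, hq⟩ := (yon S).map_surjective (q₀ ≫ e.inv)
  have hqe' : Etale q.left := (repWith_yon_map_iff _ _).1 (hq ▸ repWith_comp hqe (repWith_of_isIso _ _))
  have hqs' : Surjective q.left := (repWith_yon_map_iff _ _).1 (hq ▸ repWith_comp hqs (repWith_of_isIso _ _))
  have hp' : (yon S).map q ≫ e.hom ≫ d = p := by
    rw [hq, Category.assoc, Iso.inv_hom_id_assoc, hd]
  refine ⟨M, q, e.hom ≫ d, fun g => (yon S).map_injective ?_, hp', ?_⟩
  · rw [← ht g, Functor.map_comp, Functor.map_comp, hq, Category.assoc, reassoc_of% sq.w,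
      ← Category.assoc, ← Functor.map_comp, hs, CategoryTheory.Functor.map_id, Category.id_comp]
  · exact S10212.result ⟨X, hX⟩ q (e.hom ≫ d) (by rw [hp']; exact hp)

end Groth.Agent.AlgSpMS
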