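import Groth.Agent.AlgSpMS.Tuples
import Groth.Agent.AlgSpMS.FreeQuotChart
import Groth.Agent.AlgSpDec.FinsetAffine
import Groth.Agent.AlgSpVal.DvrExt
import Mathlib.FieldTheory.PrimitiveElement
import Mathlib.FieldTheory.Galois.Basic

/-!
# Every field point of an algebraic space lifts to an affine etale chart
-/

set_option backward.isDefEq.respectTransparency false
set_option backward.isDefEq.respectTransparency.types false

universe u

open CategoryTheory Limits AlgebraicGeometry AlgSp Groth.Agent.AlgSpLib Groth.Agent.AlgSpPts IsLocalRing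

namespace Groth.Agent.AlgSpMS

variable {S : Scheme.{u}}

/-- A finite separable extension embeds into a finite Galois extension. -/
theorem exists_galois (k κ : Type u) [Field k] [Field κ] [Algebra k κ] [Module.Finite k κ]
    [Algebra.IsSeparable k κ] :
    ∃ (L : Type u) (_ : Field L) (_ : Algebra k L), Module.Finite k L ∧ IsGalois k L ∧ Nonempty (κ →ₐ[k] L) := by
  let pb := Field.powerBasisOfFiniteOfSeparable k κ
  let f := minpoly k pb.gen
  have hsp : f.Separable := Algebra.IsSeparable.isSeparable k pb.gen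
  have hdeg : f.degree ≠ 0 := (minpoly.degree_pos (Algebra.IsIntegral.isIntegral pb.gen)).ne'
  have : IsGalois k f.SplittingField := IsGalois.of_separable_splitting_field hsp
  obtain ⟨y, hy⟩ := (Polynomial.SplittingField.splits f).exists_eval_eq_zero
    (by rw [Polynomial.degree_map]; exact hdeg)
  refine ⟨f.SplittingField, inferInstance, inferInstance, inferInstance, inferInstance, ⟨pb.lift y ?_⟩⟩
  rw [Polynomial.aeval_def, Polynomial.eval₂_eq_eval_map]
  exact hy

/-- A Galois invariant point of a scheme descends to the ground field. -/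
theorem exists_factor_of_galois {k L : Type u} [Field k] [Field L] [Algebra k L] [Module.Finite k L]
    [IsGalois k L] {M : Scheme.{u}} (m : Spec (CommRingCat.of L) ⟶ M)
    (h : ∀ γ : L ≃ₐ[k] L, Spec.map (CommRingCat.ofHom (γ : L →+* L)) ≫ m = m) :
    ∃ g : Spec (CommRingCat.of k) ⟶ M, Spec.map (CommRingCat.ofHom (algebraMap k L)) ≫ g = m := by
  obtain ⟨z, f, rfl⟩ : ∃ (z : M) (f : M.residueField z ⟶ CommRingCat.of L),
      Spec.map f ≫ M.fromSpecResidueField z = m :=
    ⟨_, _, (Scheme.SpecToEquivOfField L M).left_inv m⟩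
  have hfix : ∀ (γ : L ≃ₐ[k] L) (x : M.residueField z), γ (f.hom x) = f.hom x := fun γ x => by
    have := h γ
    rw [← Category.assoc, ← Spec.map_comp] at this
    have := Spec.map_injective ((cancel_mono (M.fromSpecResidueField z)).1 this)
    exact congrArg (fun r : M.residueField z ⟶ CommRingCat.of L => r.hom x) this
  have hrange : ∀ x : M.residueField z, f.hom x ∈ (algebraMap k L).range := fun x =>
    (IsGalois.mem_range_algebraMap_iff_fixed (f.hom x)).2 fun γ => hfix γ x
  let e := RingEquiv.ofBijective (algebraMap k L).rangeRestrict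
    ⟨fun a b hab => (algebraMap k L).injective (congrArg Subtype.val hab), (algebraMap k L).rangeRestrict_surjective⟩
  let g : M.residueField z →+* k := e.symm.toRingHom.comp (f.hom.codRestrict _ hrange)
  have hg : CommRingCat.ofHom g ≫ CommRingCat.ofHom (algebraMap k L) = f := by
    ext x
    exact congrArg Subtype.val (e.apply_symm_apply (f.hom.codRestrict _ hrange x))
  exact ⟨Spec.map (CommRingCat.ofHom g) ≫ M.fromSpecResidueField z, by rw [← Category.assoc, ← Spec.map_comp, hg]⟩

set_option maxHeartbeats 800000 in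
/-- The finite orbit of a Galois point of an affine chart gives a chart with a rational point. -/
theorem exists_chart_of_galois_point {X : Sp S} (hX : IsAlgSpace X) {U : Over S} [IsAffine U.left]
    {a : (yon S).obj U ⟶ X} (ha : RepWith @Etale a) {k L : Type u} [Field k] [Field L] [Algebra k L]
    [Module.Finite k L] [IsGalois k L] (str : Spec (CommRingCat.of k) ⟶ S)
    (x : (yon S).obj (Over.mk str) ⟶ X)
    (w₀ : Over.mk (Spec.map (CommRingCat.ofHom (algebraMap k L)) ≫ str) ⟶ U)
    (h₀ : (yon S).map w₀ ≫ a = (yon S).map (Over.homMk (Spec.map (CommRingCat.ofHom (algebraMap k L))) rfl :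
      Over.mk (Spec.map (CommRingCat.ofHom (algebraMap k L)) ≫ str) ⟶ Over.mk str) ≫ x) :
    ∃ (Z : Over S) (p : (yon S).obj Z ⟶ X) (g : Over.mk str ⟶ Z),
      IsAffine Z.left ∧ RepWith @Etale p ∧ (yon S).map g ≫ p = x := by
  let T : Over S := Over.mk (Spec.map (CommRingCat.ofHom (algebraMap k L)) ≫ str)
  let π : T ⟶ Over.mk str := Over.homMk (Spec.map (CommRingCat.ofHom (algebraMap k L))) rfl
  have hγ : ∀ γ : L ≃ₐ[k] L, Spec.map (CommRingCat.ofHom (γ : L →+* L)) ≫
      Spec.map (CommRingCat.ofHom (algebraMap k L)) = Spec.map (CommRingCat.ofHom (algebraMap k L)) := fun γ => by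
    rw [← Spec.map_comp, ← CommRingCat.ofHom_comp]
    congr 2
    exact RingHom.ext γ.commutes
  let γO : (L ≃ₐ[k] L) → (T ⟶ T) := fun γ => Over.homMk (Spec.map (CommRingCat.ofHom (γ : L →+* L))) (by
    show _ ≫ _ ≫ str = _ ≫ str
    rw [← Category.assoc, hγ])
  have hγπ : ∀ γ, γO γ ≫ π = π := fun γ => Over.OverMorphism.ext (hγ γ)
  have hγmul : ∀ γ δ, γO γ ≫ γO δ = γO (γ * δ) := fun γ δ => Over.OverMorphism.ext (by
    show Spec.map _ ≫ Spec.map _ = Spec.map _
    rw [← Spec.map_comp, ← CommRingCat.ofHom_comp]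
    rfl)
  have hγone : γO 1 = 𝟙 T := Over.OverMorphism.ext (by
    show Spec.map _ = 𝟙 _
    rw [← Spec.map_id]; rfl)
  let I : Set (T ⟶ U) := Set.range fun γ => γO γ ≫ w₀
  let ι : Type u := ↥I
  have : Finite ι := (Set.finite_range _).to_subtype
  let i₀ : ι := ⟨w₀, 1, by show γO 1 ≫ w₀ = w₀; rw [hγone, Category.id_comp]⟩
  have hI : ∀ (γ) (i : ι), γO γ ≫ i.1 ∈ I := by
    rintro γ ⟨_, δ, rfl⟩
    exact ⟨γ * δ, by show γO (γ * δ) ≫ w₀ = γO γ ≫ γO δ ≫ w₀; rw [← hγmul, Category.assoc]⟩
  let perm : (L ≃ₐ[k] L) → Equiv.Perm ι := fun γ =>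
    { toFun := fun i => ⟨_, hI γ i⟩, invFun := fun i => ⟨_, hI γ⁻¹ i⟩,
      left_inv := fun i => Subtype.ext (by
        show γO γ⁻¹ ≫ γO γ ≫ i.1 = i.1
        rw [← Category.assoc, hγmul, inv_mul_cancel, hγone, Category.id_comp]),
      right_inv := fun i => Subtype.ext (by
        show γO γ ≫ γO γ⁻¹ ≫ i.1 = i.1
        rw [← Category.assoc, hγmul, mul_inv_cancel, hγone, Category.id_comp]) }
  have hcomm : ∀ i : ι, (yon S).map i.1 ≫ a = (yon S).map π ≫ x := by
    rintro ⟨_, γ, rfl⟩
    show (yon S).map (γO γ ≫ w₀) ≫ a = _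
    rw [Functor.map_comp, Category.assoc, h₀, ← Category.assoc, ← Functor.map_comp, hγπ]
  obtain ⟨W, v, ρ, hv, hlift, hext, hact, hfree, hve, hvs⟩ := exists_distinct_tuples ha ι i₀
  obtain ⟨φ, hφ⟩ := hlift T (fun i => i.1) (fun i j => (hcomm i).trans (hcomm j).symm) fun z => by
    intro i j h
    refine Subtype.ext (Over.OverMorphism.ext ?_)
    let q := T.left.fromSpecResidueField z
    have : Epi q := by
      have : Surjective q := ⟨fun y => ⟨closedPoint _, @Subsingleton.elim _
        (inferInstanceAs (Subsingleton (PrimeSpectrum L))) _ _⟩⟩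
      have : Flat q := by
        obtain ⟨r, hr⟩ := Spec.map_surjective q
        rw [← hr, HasRingHomProperty.Spec_iff (P := @Flat)]
        letI := r.hom.toAlgebra
        exact inferInstanceAs (Module.Flat L (T.left.residueField z))
      exact Flat.epi_of_flat_of_surjective q
    exact (cancel_epi q).1 h
  -- the invariant affine open
  have : LocallyQuasiFinite (v i₀).left := inferInstance
  have : IsSeparated (v i₀).left := hvs
  let pt : W.left := φ.left (closedPoint L)
  obtain ⟨V, hV, hTV⟩ := AlgSpDec.exists_affineOpen_of_finite (v i₀).left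
    (Set.finite_range fun σ => (ρ σ).hom.left pt)
  have : IsSeparated (terminal.from W.left) := by
    rw [Subsingleton.elim (terminal.from W.left) ((v i₀).left ≫ terminal.from U.left)]
    infer_instance
  have hiso : ∀ σ, IsIso (ρ σ).hom.left := fun σ => inferInstanceAs (IsIso ((Over.forget S).map (ρ σ).hom))
  let A₀ : W.left.Opens := ⨅ σ, (ρ σ).hom.left ⁻¹ᵁ V
  have hA₀ : IsAffineOpen A₀ := IsAffineOpen.iInf fun σ => hV.preimage_of_isIso _
  have hmem : ∀ y : W.left, y ∈ A₀ ↔ ∀ σ, (ρ σ).hom.left y ∈ V := fun y => by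
    show y ∈ (A₀ : Set W.left) ↔ _
    simp only [A₀, TopologicalSpace.Opens.coe_iInf, Set.mem_iInter]
    rfl
  let A : Over S := Over.mk (A₀.ι ≫ W.hom)
  have : IsAffine A.left := hA₀
  let ιA : A ⟶ W := Over.homMk A₀.ι rfl
  have : Mono ιA := (Over.forget S).mono_of_mono_map (inferInstanceAs (Mono A₀.ι))
  have hinto : ∀ σ, ∃ r : A ⟶ A, r ≫ ιA = ιA ≫ (ρ σ).hom := fun σ => by
    have hr : Set.range (ιA ≫ (ρ σ).hom).left ⊆ Set.range A₀.ι := by
      rw [Scheme.Opens.range_ι]
      rintro _ ⟨y, rfl⟩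
      refine (hmem _).2 fun τ => ?_
      have h2 := (hmem _).1 (y : ↥A₀.toScheme).2 (τ * σ)
      rw [AlgSpDec.FreeAction.hom_mul] at h2
      exact h2
    exact ⟨Over.homMk (IsOpenImmersion.lift A₀.ι _ hr)
      (by show _ ≫ A₀.ι ≫ W.hom = _; rw [IsOpenImmersion.lift_fac_assoc]; exact Over.w (ιA ≫ (ρ σ).hom)),
      Over.OverMorphism.ext (IsOpenImmersion.lift_fac _ _ _)⟩
  choose act hact' using hinto
  have hmul : ∀ σ τ, act τ ≫ act σ = act (σ * τ) := fun σ τ => (cancel_mono ιA).1 (by
    rw [Category.assoc, hact', ← Category.assoc, hact', Category.assoc, hact', AlgSpDec.FreeAction.hom_mul])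
  have hone : act 1 = 𝟙 A := (cancel_mono ιA).1 (by
    rw [hact', map_one, Category.id_comp]; exact Category.comp_id _)
  let ρA : Equiv.Perm ι →* Aut A :=
    { toFun := fun σ => ⟨act σ, act σ⁻¹, by rw [hmul, inv_mul_cancel, hone], by rw [hmul, mul_inv_cancel, hone]⟩
      map_one' := Iso.ext hone
      map_mul' := fun σ τ => Iso.ext (hmul σ τ).symm }
  have hfreeA : ∀ (σ : Equiv.Perm ι) (y : A.left), σ ≠ 1 →
      A.left.fromSpecResidueField y ≫ (ρA σ).hom.left ≠ A.left.fromSpecResidueField y := by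
    intro σ y hσ h
    refine hfree σ (ιA.left y) hσ ?_
    have h2 : ιA.left ≫ (ρ σ).hom.left = (ρA σ).hom.left ≫ ιA.left := congrArg (fun m => m.left) (hact' σ).symm
    have e : (A.left.fromSpecResidueField y ≫ ιA.left) ≫ (ρ σ).hom.left =
        A.left.fromSpecResidueField y ≫ ιA.left := by rw [Category.assoc, h2, ← Category.assoc, h]
    rw [← Scheme.Hom.SpecMap_residueFieldMap_fromSpecResidueField, Category.assoc] at e
    have : IsIso (ιA.left.residueFieldMap y) := inferInstanceAs (IsIso (A₀.ι.residueFieldMap y))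
    exact (cancel_epi _).1 e
  let p : (yon S).obj A ⟶ X := (yon S).map (ιA ≫ v i₀) ≫ a
  have : IsOpenImmersion ιA.left := inferInstanceAs (IsOpenImmersion A₀.ι)
  have hp : RepWith @Etale p :=
    repWith_comp ((repWith_yon_map_iff _ _).2 (inferInstanceAs (Etale (ιA.left ≫ (v i₀).left)))) ha
  have hinv : ∀ σ, (yon S).map (ρA σ).hom ≫ p = p := fun σ => by
    simp only [p]
    rw [← Category.assoc, ← Functor.map_comp, ← Category.assoc (ρA σ).hom, show (ρA σ).hom ≫ ιA = _ from hact' σ,
      Category.assoc, hact, Functor.map_comp, Functor.map_comp, Category.assoc, Category.assoc, hv]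
  obtain ⟨M, q, p', hq, hp', hpe⟩ := exists_quotient_chart hX ρA hfreeA hp hinv
  -- the rational point
  have hφA : Set.range φ.left ⊆ Set.range A₀.ι := by
    rw [Scheme.Opens.range_ι]
    rintro _ ⟨y, rfl⟩
    refine (hmem _).2 fun σ => hTV ⟨σ, ?_⟩
    show (ρ σ).hom.left (φ.left _) = _
    rw [@Subsingleton.elim _ (inferInstanceAs (Subsingleton (PrimeSpectrum L))) (closedPoint L) y]
  let φA : T ⟶ A := Over.homMk (IsOpenImmersion.lift A₀.ι φ.left hφA)
    (by show _ ≫ A₀.ι ≫ W.hom = _; rw [IsOpenImmersion.lift_fac_assoc]; exact Over.w φ)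
  have hφA' : φA ≫ ιA = φ := Over.OverMorphism.ext (IsOpenImmersion.lift_fac _ _ _)
  have hGal : ∀ γ, γO γ ≫ φA ≫ q = φA ≫ q := fun γ => by
    have e : γO γ ≫ φ = φ ≫ (ρ (perm γ)⁻¹).hom := hext _ _ _ fun i => by
      rw [Category.assoc, hφ, Category.assoc, hact, inv_inv, hφ]
      rfl
    have e' : γO γ ≫ φA = φA ≫ (ρA (perm γ)⁻¹).hom := (cancel_mono ιA).1 (by
      rw [Category.assoc, hφA', Category.assoc, show (ρA (perm γ)⁻¹).hom ≫ ιA = _ from hact' _, ← Category.assoc,
        hφA', e])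
    rw [← Category.assoc, e', Category.assoc, hq]
  obtain ⟨g₀, hg₀⟩ := exists_factor_of_galois (φA ≫ q).left fun γ => congrArg (fun m => m.left) (hGal γ)
  have hflat : fppf π.left := by
    refine ⟨⟨⟨fun y => ⟨closedPoint L, @Subsingleton.elim _ (inferInstanceAs (Subsingleton (PrimeSpectrum k))) _ _⟩⟩,
      ?_⟩, ?_⟩
    · show Flat (Spec.map _)
      rw [HasRingHomProperty.Spec_iff (P := @Flat), CommRingCat.hom_ofHom, RingHom.flat_algebraMap_iff]
      infer_instance
    · show LocallyOfFinitePresentation (Spec.map _)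
      rw [HasRingHomProperty.Spec_iff (P := @LocallyOfFinitePresentation), CommRingCat.hom_ofHom,
        RingHom.finitePresentation_algebraMap]
      exact Algebra.FinitePresentation.of_finiteType.mp inferInstance
  obtain ⟨⟨_, _⟩, _⟩ := id hflat
  have : Epi π.left := Flat.epi_of_flat_of_surjective π.left
  let g : Over.mk str ⟶ M := Over.homMk g₀ ((cancel_epi π.left).1 (by
    rw [← Category.assoc, show π.left ≫ g₀ = _ from hg₀]; exact Over.w (φA ≫ q)))
  have hg : π ≫ g = φA ≫ q := Over.OverMorphism.ext hg₀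
  have : Sheaf.IsLocallySurjective ((yon S).map π) :=
    isLocallySurjective_of_repWith ((repWith_yon_map_iff fppf π).2 hflat)
  have : Epi ((yon S).map π) := (Sheaf.isLocallySurjective_iff_epi _).1 inferInstance
  have hgx : (yon S).map g ≫ p' = x := by
    refine (cancel_epi ((yon S).map π)).1 ?_
    rw [← Category.assoc, ← Functor.map_comp, hg, Functor.map_comp, Category.assoc, hp']
    simp only [p]
    rw [← Category.assoc, ← Functor.map_comp, ← Category.assoc φA, hφA', hφ]
    exact hcomm i₀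
  obtain ⟨Z₀, hZ₀, hgZ⟩ := GrpdLib.exists_affineOpen_mem (g.left (closedPoint k))
  let Z : Over S := Over.mk (Z₀.ι ≫ M.hom)
  let ιZ : Z ⟶ M := Over.homMk Z₀.ι rfl
  have hgr : Set.range g.left ⊆ Set.range Z₀.ι := by
    rw [Scheme.Opens.range_ι]
    rintro _ ⟨y, rfl⟩
    rw [@Subsingleton.elim _ (inferInstanceAs (Subsingleton (PrimeSpectrum k))) y (closedPoint k)]
    exact hgZ
  have : IsOpenImmersion ιZ.left := inferInstanceAs (IsOpenImmersion Z₀.ι)
  refine ⟨Z, (yon S).map ιZ ≫ p', Over.homMk (IsOpenImmersion.lift Z₀.ι g.left hgr)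
    (by show _ ≫ Z₀.ι ≫ M.hom = _; rw [IsOpenImmersion.lift_fac_assoc]; exact Over.w g), hZ₀,
    repWith_comp ((repWith_yon_map_iff _ _).2 (inferInstanceAs (Etale ιZ.left))) hpe, ?_⟩
  rw [← Category.assoc, ← Functor.map_comp]
  refine Eq.trans ?_ hgx
  congr 2
  exact Over.OverMorphism.ext (IsOpenImmersion.lift_fac _ _ _)

/-- Every field point of an algebraic space lifts to an affine etale chart. -/
theorem exists_chart_fieldPt {X : Sp S} (hX : IsAlgSpace X) {k : Type u} [Field k]
    (str : Spec (CommRingCat.of k) ⟶ S) (x : (yon S).obj (Over.mk str) ⟶ X) :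
    ∃ (Z : Over S) (p : (yon S).obj Z ⟶ X) (g : Over.mk str ⟶ Z),
      IsAffine Z.left ∧ RepWith @Etale p ∧ (yon S).map g ≫ p = x := by
  obtain ⟨U, a, ha, has⟩ := hX.atlas
  let E := ha.rep.pullback x
  let fU : E ⟶ U := ha.rep.fst' x
  let fk : E ⟶ Over.mk str := ha.rep.snd x
  have hfk : Etale fk.left := ha.property_snd x
  have hfs : Surjective fk.left := has.property _ _ _ (ha.rep.isPullback x)
  obtain ⟨e, -⟩ := hfs.surj (closedPoint k)
  let κ := E.left.residueField e
  obtain ⟨ψ, hψ⟩ := Spec.map_surjective (E.left.fromSpecResidueField e ≫ fk.left)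
  obtain ⟨hfin, hsep⟩ := AlgSpVal.finite_separable_of_etale fk.left e ψ hψ
  let _ : Algebra k κ := ψ.hom.toAlgebra
  have : Module.Finite k κ := hfin
  have : Algebra.IsSeparable k κ := hsep
  obtain ⟨L, _, _, _, _, ⟨em⟩⟩ := exists_galois k κ
  obtain ⟨V₀, hV₀, heV⟩ := GrpdLib.exists_affineOpen_mem (fU.left e)
  let V : Over S := Over.mk (V₀.ι ≫ U.hom)
  have : IsAffine V.left := hV₀
  let ιV : V ⟶ U := Over.homMk V₀.ι rfl
  have : IsOpenImmersion ιV.left := inferInstanceAs (IsOpenImmersion V₀.ι)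
  let T : Over S := Over.mk (Spec.map (CommRingCat.ofHom (algebraMap k L)) ≫ str)
  let π : T ⟶ Over.mk str := Over.homMk (Spec.map (CommRingCat.ofHom (algebraMap k L))) rfl
  have hem : Spec.map (CommRingCat.ofHom em.toRingHom) ≫ E.left.fromSpecResidueField e ≫ fk.left = π.left := by
    rw [← hψ, ← Spec.map_comp]
    exact congrArg Spec.map (CommRingCat.hom_ext (RingHom.ext em.commutes))
  let wE : T ⟶ E := Over.homMk (Spec.map (CommRingCat.ofHom em.toRingHom) ≫ E.left.fromSpecResidueField e) (by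
    show (Spec.map (CommRingCat.ofHom em.toRingHom) ≫ E.left.fromSpecResidueField e) ≫ E.hom = π.left ≫ str
    rw [← hem, ← Over.w fk]
    simp only [Category.assoc]
    rfl)
  have hwπ : wE ≫ fk = π := Over.OverMorphism.ext ((Category.assoc _ _ _).trans hem)
  have hr : Set.range (wE ≫ fU).left ⊆ Set.range V₀.ι := by
    rw [Scheme.Opens.range_ι]
    rintro _ ⟨y, rfl⟩
    show fU.left (E.left.fromSpecResidueField e _) ∈ V₀
    erw [Scheme.fromSpecResidueField_apply]
    exact heV
  let w₀ : T ⟶ V := Over.homMk (IsOpenImmersion.lift V₀.ι (wE ≫ fU).left hr)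
    (by show _ ≫ V₀.ι ≫ U.hom = _; rw [IsOpenImmersion.lift_fac_assoc]; exact Over.w (wE ≫ fU))
  have hw : w₀ ≫ ιV = wE ≫ fU := Over.OverMorphism.ext (IsOpenImmersion.lift_fac _ _ _)
  exact exists_chart_of_galois_point hX (a := (yon S).map ιV ≫ a)
    (repWith_comp ((repWith_yon_map_iff _ _).2 (inferInstanceAs (Etale ιV.left))) ha) str x w₀ (by
      rw [← Category.assoc, ← Functor.map_comp, hw, Functor.map_comp, Category.assoc,
        show (yon S).map fU ≫ a = (yon S).map fk ≫ x from (ha.rep.isPullback' x).w, ← Category.assoc,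
        ← Functor.map_comp, hwπ])

end Groth.Agent.AlgSpMS
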