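import Mathlib.AlgebraicGeometry.Morphisms.Separated
import Mathlib.AlgebraicGeometry.Limits
import Mathlib.AlgebraicGeometry.Morphisms.Immersion

/-!
# Disjoint unions of separated schemes are separated
-/

set_option backward.isDefEq.respectTransparency false
set_option backward.isDefEq.respectTransparency.types false

universe u

open CategoryTheory Limits AlgebraicGeometry

namespace Groth.Agent.AlgSpMS

theorem isSeparated_sigmaDesc {σ : Type u} {Y : σ → Scheme.{u}} {T : Scheme.{u}} (f : ∀ i, Y i ⟶ T)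
    (hf : ∀ i, IsSeparated (f i)) : IsSeparated (Sigma.desc f) := by
  let F := Sigma.desc f
  refine ⟨IsClosedImmersion.of_isPreimmersion _ ?_⟩
  let p := pullback.fst F F
  let q := pullback.snd F F
  have hdiag : ∀ i, Sigma.ι Y i ≫ F = f i := fun i => Sigma.ι_desc _ _
  let M : ∀ i, pullback (f i) (f i) ⟶ pullback F F := fun i =>
    pullback.map _ _ _ _ (Sigma.ι Y i) (Sigma.ι Y i) (𝟙 T) (by rw [Category.comp_id, hdiag])
      (by rw [Category.comp_id, hdiag])
  have hM : ∀ i, pullback.diagonal (f i) ≫ M i = Sigma.ι Y i ≫ pullback.diagonal F := fun i => by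
    apply pullback.hom_ext <;> simp [M]
  rw [← isOpen_compl_iff, isOpen_iff_forall_mem_open]
  intro z hz
  obtain ⟨⟨i, a⟩, ha⟩ := (sigmaMk Y).surjective (p z)
  obtain ⟨⟨j, b⟩, hb⟩ := (sigmaMk Y).surjective (q z)
  rw [sigmaMk_mk] at ha hb
  have hidx : ∀ {i j : σ} {a : Y i} {b : Y j}, Sigma.ι Y i a = Sigma.ι Y j b → i = j := fun {i j a b} h =>
    congrArg Sigma.fst ((sigmaMk Y).injective (a₁ := ⟨i, a⟩) (a₂ := ⟨j, b⟩)
      (by rw [sigmaMk_mk, sigmaMk_mk]; exact h))
  by_cases hij : i = j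
  · subst hij
    have hop : IsOpenImmersion (M i) := inferInstance
    have hzr : z ∈ Set.range (M i) := by
      rw [Scheme.Pullback.range_map]
      exact ⟨⟨a, ha⟩, b, hb⟩
    have : IsClosedImmersion (pullback.diagonal (f i)) := (hf i).isClosedImmersion_diagonal
    refine ⟨M i '' (Set.range (pullback.diagonal (f i)))ᶜ, ?_,
      (M i).isOpenEmbedding.isOpenMap _ (pullback.diagonal (f i)).isClosedEmbedding.isClosed_range.isOpen_compl, ?_⟩
    · rintro _ ⟨w, hw, rfl⟩ ⟨y, hy⟩
      obtain ⟨⟨k, c⟩, rfl⟩ := (sigmaMk Y).surjective y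
      rw [sigmaMk_mk] at hy
      have h1 : p (M i w) = Sigma.ι Y i (pullback.fst (f i) (f i) w) := by
        rw [← Scheme.Hom.comp_apply, ← Scheme.Hom.comp_apply]
        simp [M, p]
      have h2 : p (pullback.diagonal F (Sigma.ι Y k c)) = Sigma.ι Y k c := by
        rw [← Scheme.Hom.comp_apply]
        simp [p]
      have hki : k = i := hidx (h2.symm.trans ((congrArg p hy).trans h1))
      subst hki
      refine hw ⟨c, (M k).isOpenEmbedding.injective ?_⟩
      rw [← hy, ← Scheme.Hom.comp_apply, ← Scheme.Hom.comp_apply, hM]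
    · obtain ⟨w, rfl⟩ := hzr
      refine ⟨w, fun ⟨c, hc⟩ => hz ⟨Sigma.ι Y i c, ?_⟩, rfl⟩
      rw [← hc, ← Scheme.Hom.comp_apply, ← Scheme.Hom.comp_apply, hM]
  · refine ⟨p ⁻¹' Set.range (Sigma.ι Y i) ∩ q ⁻¹' Set.range (Sigma.ι Y j), ?_, ?_, ⟨a, ha⟩, b, hb⟩
    · rintro _ ⟨⟨a', ha'⟩, b', hb'⟩ ⟨y, rfl⟩
      have h1 : p (pullback.diagonal F y) = y := by rw [← Scheme.Hom.comp_apply]; simp [p]
      have h2 : q (pullback.diagonal F y) = y := by rw [← Scheme.Hom.comp_apply]; simp [q]
      exact hij (hidx ((ha'.trans h1).trans (hb'.trans h2).symm))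
    · exact ((Sigma.ι Y i).isOpenEmbedding.isOpen_range.preimage p.continuous).inter
        ((Sigma.ι Y j).isOpenEmbedding.isOpen_range.preimage q.continuous)

end Groth.Agent.AlgSpMS
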