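import Groth.Agent.AlgSpMS.FieldChart
import Groth.Agent.AlgSpMS.SigmaSep
import Groth.Agent.AlgSpDec.LqfQuot
import Groth.Agent.IsoNatLib.SmoothCrit
import Groth.Agent.Hensel.SmoothLift
import Groth.Agent.Hensel.PairBasic
import Groth.Agent.S5038
import Groth.Agent.AlgSpLib.EtLocalInst
import Mathlib.FieldTheory.IsAlgClosed.AlgebraicClosure

/-!
# Points over henselian local rings and etale charts
-/

set_option backward.isDefEq.respectTransparency false
set_option backward.isDefEq.respectTransparency.types false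

universe u

open CategoryTheory Limits AlgebraicGeometry AlgSp Groth.Agent.AlgSpLib Groth.Agent.AlgSpPts IsLocalRing

namespace Groth.Agent.AlgSpMS

variable {S : Scheme.{u}} {X : Sp S}

/-- `Spec` of a ring over `S`. -/
noncomputable abbrev ovS (A : Type u) [CommRing A] (str : Spec (CommRingCat.of A) ⟶ S) : Over S := Over.mk str

/-- The map of spectra over `S` induced by a ring map. -/
noncomputable def specOver {A B : Type u} [CommRing A] [CommRing B] (f : A →+* B) (str : Spec (CommRingCat.of A) ⟶ S) :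
    Over.mk (Spec.map (CommRingCat.ofHom f) ≫ str) ⟶ Over.mk str :=
  Over.homMk (Spec.map (CommRingCat.ofHom f)) rfl

/-- A point of an etale chart over the closed point extends to the henselian local ring. -/
theorem lift_point {Z : Over S} {p : (yon S).obj Z ⟶ X} (hp : RepWith @Etale p) {R : Type u} [CommRing R]
    [HenselianLocalRing R] (str : Spec (CommRingCat.of R) ⟶ S) (z : (yon S).obj (Over.mk str) ⟶ X)
    (g₀ : Over.mk (Spec.map (CommRingCat.ofHom (residue R)) ≫ str) ⟶ Z)
    (w : (yon S).map g₀ ≫ p = (yon S).map (specOver (residue R) str) ≫ z) :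
    ∃ g : Over.mk str ⟶ Z, (yon S).map g ≫ p = z := by
  have sq := hp.rep.isPullback' z
  let pr : hp.rep.pullback z ⟶ Over.mk str := hp.rep.snd z
  have : Etale pr.left := hp.property_snd z
  obtain ⟨u₀, hu₀⟩ := (yon S).map_surjective (sq.lift ((yon S).map g₀) ((yon S).map (specOver (residue R) str)) w)
  have h₀ : u₀ ≫ pr = specOver (residue R) str :=
    (yon S).map_injective (by rw [Functor.map_comp, hu₀, IsPullback.lift_snd])
  obtain ⟨s, hs, -⟩ := S5038.result R pr.left u₀.left (congrArg (fun m => m.left) h₀)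
  let sO : Over.mk str ⟶ hp.rep.pullback z := Over.homMk s (by
    show s ≫ (hp.rep.pullback z).hom = str
    rw [← Over.w pr, ← Category.assoc, hs]; exact Category.id_comp _)
  refine ⟨sO ≫ hp.rep.fst' z, ?_⟩
  rw [Functor.map_comp, Category.assoc, sq.w, ← Category.assoc, ← Functor.map_comp,
    show sO ≫ pr = 𝟙 _ from Over.OverMorphism.ext hs, CategoryTheory.Functor.map_id, Category.id_comp]

/-- Every point over a henselian local ring lifts to an affine etale chart. -/
theorem exists_chart_henselian (hX : IsAlgSpace X) {R : Type u} [CommRing R] [HenselianLocalRing R]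
    (str : Spec (CommRingCat.of R) ⟶ S) (z : (yon S).obj (Over.mk str) ⟶ X) :
    ∃ (Z : Over S) (p : (yon S).obj Z ⟶ X) (g : Over.mk str ⟶ Z),
      IsAffine Z.left ∧ RepWith @Etale p ∧ (yon S).map g ≫ p = z := by
  obtain ⟨Z, p, g₀, hZ, hp, hg₀⟩ := exists_chart_fieldPt hX (Spec.map (CommRingCat.ofHom (residue R)) ≫ str)
    ((yon S).map (specOver (residue R) str) ≫ z)
  obtain ⟨g, hg⟩ := lift_point hp str z g₀ hg₀
  exact ⟨Z, p, g, hZ, hp, hg⟩

/-- The points over a field of an algebraic space form a small set. -/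
theorem small_fieldPts (hX : IsAlgSpace X) {k : Type u} [Field k] (str : Spec (CommRingCat.of k) ⟶ S) :
    Small.{u} ((yon S).obj (Over.mk str) ⟶ X) := by
  obtain ⟨U, a, ha, has⟩ := hX.atlas
  let Ω := AlgebraicClosure k
  let TL : IntermediateField k Ω → Over S := fun L => Over.mk (Spec.map (CommRingCat.ofHom (algebraMap k L)) ≫ str)
  let πL : ∀ L, TL L ⟶ Over.mk str := fun L => specOver (algebraMap k L) str
  have key : ∀ x : (yon S).obj (Over.mk str) ⟶ X, ∃ (L : IntermediateField k Ω) (w : TL L ⟶ U),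
      FiniteDimensional k L ∧ (yon S).map (πL L) ≫ x = (yon S).map w ≫ a := by
    intro x
    let fU : ha.rep.pullback x ⟶ U := ha.rep.fst' x
    let fk : ha.rep.pullback x ⟶ Over.mk str := ha.rep.snd x
    let E := ha.rep.pullback x
    have hfk : Etale fk.left := ha.property_snd x
    have hfs : Surjective fk.left := has.property _ _ _ (ha.rep.isPullback x)
    obtain ⟨e, -⟩ := hfs.surj (closedPoint k)
    obtain ⟨ψ, hψ⟩ := Spec.map_surjective (E.left.fromSpecResidueField e ≫ fk.left)
    obtain ⟨hfin, hsep⟩ := AlgSpVal.finite_separable_of_etale fk.left e ψ hψ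
    let _ : Algebra k (E.left.residueField e) := ψ.hom.toAlgebra
    have : Module.Finite k (E.left.residueField e) := hfin
    let em : E.left.residueField e →ₐ[k] Ω := IsAlgClosed.lift
    let L := em.fieldRange
    let em' : E.left.residueField e →ₐ[k] L := em.rangeRestrict
    have hfL : FiniteDimensional k L := Module.Finite.of_surjective em'.toLinearMap em.rangeRestrict_surjective
    have hem : Spec.map (CommRingCat.ofHom em'.toRingHom) ≫ E.left.fromSpecResidueField e ≫ fk.left =
        (πL L).left := by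
      rw [← hψ, ← Spec.map_comp]
      exact congrArg Spec.map (CommRingCat.hom_ext (RingHom.ext em'.commutes))
    let wE : TL L ⟶ E := Over.homMk (Spec.map (CommRingCat.ofHom em'.toRingHom) ≫ E.left.fromSpecResidueField e) (by
      show (Spec.map (CommRingCat.ofHom em'.toRingHom) ≫ E.left.fromSpecResidueField e) ≫ E.hom = (πL L).left ≫ str
      rw [← hem, ← Over.w fk]
      simp only [Category.assoc]
      rfl)
    refine ⟨L, wE ≫ fU, hfL, ?_⟩
    rw [Functor.map_comp, Category.assoc, show (yon S).map fU ≫ a = (yon S).map fk ≫ x from (ha.rep.isPullback' x).w,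
      ← Category.assoc, ← Functor.map_comp,
      show wE ≫ fk = πL L from Over.OverMorphism.ext ((Category.assoc _ _ _).trans hem)]
  choose L w hL hw using key
  refine small_of_injective (f := fun x => (⟨L x, w x⟩ : Σ L, TL L ⟶ U)) fun x y h => ?_
  have hc : (yon S).map (πL (L x)) ≫ x = (yon S).map (πL (L x)) ≫ y := by
    have h' : ∀ (L₁ L₂ : IntermediateField k Ω) (w₁ : TL L₁ ⟶ U) (w₂ : TL L₂ ⟶ U),
        (⟨L₁, w₁⟩ : Σ L, TL L ⟶ U) = ⟨L₂, w₂⟩ → (yon S).map (πL L₁) ≫ x = (yon S).map w₁ ≫ a →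
        (yon S).map (πL L₂) ≫ y = (yon S).map w₂ ≫ a → (yon S).map (πL L₁) ≫ x = (yon S).map (πL L₁) ≫ y := by
      rintro L₁ L₂ w₁ w₂ h e₁ e₂
      obtain ⟨rfl, h⟩ := Sigma.mk.inj_iff.1 h
      obtain rfl := eq_of_heq h
      exact e₁.trans e₂.symm
    exact h' _ _ _ _ h (hw x) (hw y)
  have := hL x
  have hflat : fppf (πL (L x)).left := by
    refine ⟨⟨⟨fun y => ⟨closedPoint (L x), @Subsingleton.elim _ (inferInstanceAs (Subsingleton (PrimeSpectrum k))) _ _⟩⟩,
      ?_⟩, ?_⟩
    · show Flat (Spec.map _)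
      rw [HasRingHomProperty.Spec_iff (P := @Flat), CommRingCat.hom_ofHom, RingHom.flat_algebraMap_iff]
      infer_instance
    · show LocallyOfFinitePresentation (Spec.map _)
      rw [HasRingHomProperty.Spec_iff (P := @LocallyOfFinitePresentation), CommRingCat.hom_ofHom,
        RingHom.finitePresentation_algebraMap]
      exact Algebra.FinitePresentation.of_finiteType.mp inferInstance
  have : Sheaf.IsLocallySurjective ((yon S).map (πL (L x))) :=
    isLocallySurjective_of_repWith ((repWith_yon_map_iff fppf _).2 hflat)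
  have : Epi ((yon S).map (πL (L x))) := (Sheaf.isLocallySurjective_iff_epi _).1 inferInstance
  exact (cancel_epi _).1 hc

/-- Affine charts through all points of the closed point of a henselian local ring, one for each point. -/
theorem exists_charts_all_quotient_points (hX : IsAlgSpace X) {R : Type u} [CommRing R] [HenselianLocalRing R]
    (str : Spec (CommRingCat.of R) ⟶ S) :
    ∃ (σ : Type u) (Z : σ → Over S) (p : (yon S).obj (AlgSpDec.sigmaOver Z) ⟶ X),
      (∀ i, IsAffine (Z i).left) ∧ RepWith @Etale p ∧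
      (Finite ((yon S).obj (Over.mk (Spec.map (CommRingCat.ofHom (residue R)) ≫ str)) ⟶ X) → Finite σ) ∧
      ∀ (I : Ideal R) (x : (yon S).obj (Over.mk (Spec.map (CommRingCat.ofHom (Ideal.Quotient.mk I)) ≫ str)) ⟶ X),
        ∃ g : Over.mk (Spec.map (CommRingCat.ofHom (Ideal.Quotient.mk I)) ≫ str) ⟶ AlgSpDec.sigmaOver Z,
          (yon S).map g ≫ p = x := by
  let Tk := Over.mk (Spec.map (CommRingCat.ofHom (residue R)) ≫ str)
  have := small_fieldPts hX (Spec.map (CommRingCat.ofHom (residue R)) ≫ str)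
  let σ := Shrink.{u} ((yon S).obj Tk ⟶ X)
  let pt : σ → ((yon S).obj Tk ⟶ X) := (equivShrink _).symm
  choose Z q g₀ hZ hq hg₀ using fun i => exists_chart_fieldPt hX (Spec.map (CommRingCat.ofHom (residue R)) ≫ str) (pt i)
  obtain ⟨p, hp⟩ := AlgSpDec.exists_hom_sigma Z q
  have hpe : RepWith @Etale p :=
    AlgSpDec.repWith_etale_sigma (hX.representable_from_yon p) fun i => by rw [hp]; exact hq i
  refine ⟨σ, Z, p, hZ, hpe, fun h => @Finite.of_equiv _ _ h (equivShrink _), fun I x => ?_⟩
  by_cases hI : I = ⊤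
  · have hsub : Subsingleton (R ⧸ I) := Ideal.Quotient.subsingleton_iff.2 hI
    have : IsEmpty ↥(Over.mk (Spec.map (CommRingCat.ofHom (Ideal.Quotient.mk I)) ≫ str)).left :=
      ⟨fun P => P.isPrime.ne_top (Subsingleton.elim (α := Ideal (R ⧸ I)) _ _)⟩
    refine ⟨Over.homMk (isInitialOfIsEmpty.to _) (isInitialOfIsEmpty.hom_ext _ _),
      AlgSpDec.hom_ext_of_isEmpty _ _⟩
  · have := IsoNatLib.henselianLocalRing_quotient I hI
    have hle : I ≤ maximalIdeal R := le_maximalIdeal hI
    let ψ : R ⧸ I →+* ResidueField R := Ideal.Quotient.lift I (residue R) fun r hr =>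
      (residue_eq_zero_iff r).2 (hle hr)
    have : IsLocalHom (Ideal.Quotient.mk I) := .of_surjective _ Ideal.Quotient.mk_surjective
    let ρ : ResidueField R →+* ResidueField (R ⧸ I) := ResidueField.map (Ideal.Quotient.mk I)
    have hρψ : ρ.comp ψ = residue (R ⧸ I) := Ideal.Quotient.ringHom_ext (RingHom.ext fun r => by
      simp [ρ, ψ, ResidueField.map_residue])
    let strI := Spec.map (CommRingCat.ofHom (Ideal.Quotient.mk I)) ≫ str
    let jψ : Tk ⟶ Over.mk strI := Over.homMk (Spec.map (CommRingCat.ofHom ψ)) (by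
      show Spec.map _ ≫ Spec.map _ ≫ str = Spec.map _ ≫ str
      rw [← Category.assoc, ← Spec.map_comp, ← CommRingCat.ofHom_comp]
      rfl)
    let jρ : Over.mk (Spec.map (CommRingCat.ofHom (residue (R ⧸ I))) ≫ strI) ⟶ Tk :=
      Over.homMk (Spec.map (CommRingCat.ofHom ρ)) (by
        show Spec.map _ ≫ Spec.map _ ≫ str = Spec.map _ ≫ Spec.map _ ≫ str
        rw [← Category.assoc, ← Category.assoc, ← Spec.map_comp, ← Spec.map_comp, ← CommRingCat.ofHom_comp,
          ← CommRingCat.ofHom_comp]
        rfl)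
    have hjj : jρ ≫ jψ = specOver (residue (R ⧸ I)) strI := Over.OverMorphism.ext (by
      show Spec.map _ ≫ Spec.map _ = Spec.map _
      rw [← Spec.map_comp, ← CommRingCat.ofHom_comp, hρψ])
    let i : σ := equivShrink _ ((yon S).map jψ ≫ x)
    have hi : pt i = (yon S).map jψ ≫ x := Equiv.symm_apply_apply _ _
    obtain ⟨g, hg⟩ := lift_point (hq i) strI x (jρ ≫ g₀ i) (by
      rw [Functor.map_comp, Category.assoc, hg₀, hi, ← Category.assoc ((yon S).map jρ) ((yon S).map jψ) x,
        ← Functor.map_comp, hjj])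
    exact ⟨g ≫ AlgSpDec.sigmaι Z i, by rw [Functor.map_comp, Category.assoc, hp, hg]⟩

/-- Smooth morphisms of algebraic spaces lift points over henselian local rings. -/
theorem exists_lift_of_smooth {Z : Sp S} (hZ : IsAlgSpace Z) (hX : IsAlgSpace X) {f : Z ⟶ X}
    (hf : LocP @Smooth f) {R : Type u} [CommRing R] [HenselianLocalRing R] (str : Spec (CommRingCat.of R) ⟶ S)
    (z : (yon S).obj (Over.mk str) ⟶ X)
    (z₀ : (yon S).obj (Over.mk (Spec.map (CommRingCat.ofHom (residue R)) ≫ str)) ⟶ Z)
    (w : z₀ ≫ f = (yon S).map (specOver (residue R) str) ≫ z) :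
    ∃ z' : (yon S).obj (Over.mk str) ⟶ Z, z' ≫ f = z ∧ (yon S).map (specOver (residue R) str) ≫ z' = z₀ := by
  have sq := IsPullback.of_hasPullback f z
  have hP : IsAlgSpace (pullback f z) := isAlgSpace_pullback hZ (IsAlgSpace.yon_obj _) hX f z
  have hsm : LocP @Smooth (pullback.snd f z) := locP_of_isPullback sq hZ hX (IsAlgSpace.yon_obj _) hf
  obtain ⟨M, p, g₀, hM, hp, hg₀⟩ := exists_chart_fieldPt hP (Spec.map (CommRingCat.ofHom (residue R)) ≫ str)
    (pullback.lift z₀ ((yon S).map (specOver (residue R) str)) w)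
  obtain ⟨h, hh⟩ := (yon S).map_surjective (p ≫ pullback.snd f z)
  have : Smooth h.left := hsm p (𝟙 _) h hp (repWith_id _ _) (by rw [Category.comp_id, hh])
  have hg : g₀ ≫ h = specOver (residue R) str := (yon S).map_injective (by
    rw [Functor.map_comp, hh, ← Category.assoc, hg₀, pullback.lift_snd])
  obtain ⟨s, hs, hs'⟩ := S5038.result R h.left g₀.left (congrArg (fun m => m.left) hg)
  let sO : Over.mk str ⟶ M := Over.homMk s (by
    show s ≫ M.hom = str
    rw [← Over.w h, ← Category.assoc, hs]; exact Category.id_comp _)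
  have hs₀ : specOver (residue R) str ≫ sO = g₀ := Over.OverMorphism.ext hs'
  refine ⟨(yon S).map sO ≫ p ≫ pullback.fst f z, ?_, ?_⟩
  · rw [Category.assoc, Category.assoc, pullback.condition, ← Category.assoc p, ← hh, ← Category.assoc,
      ← Functor.map_comp, show sO ≫ h = 𝟙 _ from Over.OverMorphism.ext hs, CategoryTheory.Functor.map_id,
      Category.id_comp]
  · rw [← Category.assoc, ← Functor.map_comp, hs₀, ← Category.assoc, hg₀, pullback.lift_fst]

/-- Points of smooth algebraic spaces over quotients of a henselian local ring lift. -/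
theorem exists_lift_of_smooth_space {R : Type u} [CommRing R] [HenselianLocalRing R]
    {X : Sp (Spec (CommRingCat.of R))} (hX : IsAlgSpace X) {U : Over (Spec (CommRingCat.of R))}
    {c : (yon _).obj U ⟶ X} (hU : Smooth U.hom) (hc : RepWith @Etale c) (hcs : RepWith @Surjective c)
    (I : Ideal R) (hI : I ≠ ⊤)
    (x₀ : (yon _).obj (Over.mk (Spec.map (CommRingCat.ofHom (Ideal.Quotient.mk I)))) ⟶ X) :
    ∃ x : (yon _).obj (Over.mk (𝟙 (Spec (CommRingCat.of R)))) ⟶ X,
      (yon _).map (Over.homMk (Spec.map (CommRingCat.ofHom (Ideal.Quotient.mk I))) (Category.comp_id _) :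
        Over.mk (Spec.map (CommRingCat.ofHom (Ideal.Quotient.mk I))) ⟶ Over.mk (𝟙 _)) ≫ x = x₀ := by
  have := IsoNatLib.henselianLocalRing_quotient I hI
  obtain ⟨M, p, g, hM, hp, hg⟩ := exists_chart_henselian hX (Spec.map (CommRingCat.ofHom (Ideal.Quotient.mk I))) x₀
  -- the chart is smooth over the base
  let q : hc.rep.pullback p ⟶ M := hc.rep.snd p
  let q' : hc.rep.pullback p ⟶ U := hc.rep.fst' p
  have hqe : Etale q.left := hc.property_snd p
  have hqs : Surjective q.left := hcs.property _ _ _ (hc.rep.isPullback p)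
  have hq' : Etale q'.left := hp.property c _ _ (hc.rep.isPullback' p).flip
  have hsm : Smooth M.hom := by
    refine IsEtLocal.of_precomp q.left M.hom hqe hqs ?_
    rw [Over.w q, ← Over.w q']
    infer_instance
  obtain ⟨φ, hφ⟩ := Spec.map_surjective (M.left.isoSpec.inv ≫ M.hom)
  have : Smooth (Spec.map φ) := by rw [hφ]; infer_instance
  let _ : Algebra R Γ(M.left, ⊤) := φ.hom.toAlgebra
  have : Algebra.Smooth R Γ(M.left, ⊤) := by
    have h : Smooth (Spec.map φ) := ‹_›
    rw [HasRingHomProperty.Spec_iff (P := @Smooth)] at h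
    exact RingHom.smooth_algebraMap.mp h
  obtain ⟨ψ, hψ⟩ := Spec.map_surjective (g.left ≫ M.left.isoSpec.hom)
  have hψφ : φ ≫ ψ = CommRingCat.ofHom (Ideal.Quotient.mk I) := Spec.map_injective (by
    rw [Spec.map_comp, hψ, hφ, Category.assoc, Iso.hom_inv_id_assoc]; exact Over.w g)
  let σ : Γ(M.left, ⊤) →ₐ[R] R ⧸ I := { ψ.hom with commutes' := fun r => congr($hψφ r) }
  have : HenselianRing R I := Hensel.henselianRing_of_le (le_maximalIdeal hI)
  obtain ⟨τ, hτ⟩ := Hensel.exists_smooth_lift I σ
  let T : Γ(M.left, ⊤) ⟶ CommRingCat.of R := CommRingCat.ofHom τ.toRingHom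
  let sO : Over.mk (𝟙 (Spec (CommRingCat.of R))) ⟶ M := Over.homMk (Spec.map T ≫ M.left.isoSpec.inv) (by
    show (Spec.map T ≫ M.left.isoSpec.inv) ≫ M.hom = 𝟙 _
    rw [Category.assoc, ← hφ, ← Spec.map_comp,
      show φ ≫ T = 𝟙 _ from CommRingCat.hom_ext (RingHom.ext τ.commutes), Spec.map_id])
  refine ⟨(yon _).map sO ≫ p, ?_⟩
  rw [← Category.assoc, ← Functor.map_comp]
  refine Eq.trans ?_ hg
  congr 2
  apply Over.OverMorphism.ext
  show Spec.map _ ≫ Spec.map T ≫ M.left.isoSpec.inv = g.left
  rw [← Category.assoc, ← Spec.map_comp, show T ≫ CommRingCat.ofHom (Ideal.Quotient.mk I) = ψ from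
    CommRingCat.hom_ext (RingHom.ext fun m => AlgHom.congr_fun hτ m), hψ, Category.assoc, Iso.hom_inv_id,
    Category.comp_id]

end Groth.Agent.AlgSpMS
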