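import Mathlib.AlgebraicGeometry.Morphisms.Integral
import Mathlib.AlgebraicGeometry.Morphisms.UniversallyOpen
import Mathlib.AlgebraicGeometry.Morphisms.QuasiFinite
import Mathlib.AlgebraicGeometry.Morphisms.ClosedImmersion

/-!
# Schemes with universally open structure map and small self fibre product are integral over quasi-finite models
-/

set_option backward.isDefEq.respectTransparency false
set_option backward.isDefEq.respectTransparency.types false

universe u

open CategoryTheory Limits AlgebraicGeometry TensorProduct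

namespace Groth.Agent.AlgSpMS

theorem exists_fg_mem_range {A M C : Type u} [CommRing A] [CommRing M] [CommRing C] [Algebra A M] [Algebra A C]
    (z : M ⊗[A] C) : ∃ s : Finset C, ∀ C' : Subalgebra A C, (s : Set C) ⊆ C' →
      z ∈ (Algebra.TensorProduct.map (AlgHom.id A M) C'.val).range := by
  classical
  induction z using TensorProduct.induction_on with
  | zero => exact ⟨∅, fun C' _ => zero_mem _⟩
  | tmul x y => exact ⟨{y}, fun C' h => ⟨x ⊗ₜ ⟨y, h (by simp)⟩, by simp⟩⟩
  | add x y hx hy =>
    obtain ⟨s, hs⟩ := hx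
    obtain ⟨t, ht⟩ := hy
    exact ⟨s ∪ t, fun C' h => add_mem (hs C' fun a ha => h (by simp [Finset.mem_coe.1 ha]))
      (ht C' fun a ha => h (by simp [Finset.mem_coe.1 ha]))⟩

theorem exists_fg_model {A C D : Type u} [CommRing A] [CommRing C] [CommRing D] [Algebra A C] [Algebra A D]
    (θ : C ⊗[A] C →ₐ[A] D) (hθ : Function.Surjective θ)
    (hft : (θ.toRingHom.comp Algebra.TensorProduct.includeLeftRingHom).FiniteType) :
    ∃ C' : Subalgebra A C, C'.FG ∧
      Function.Surjective (θ.comp (Algebra.TensorProduct.map (AlgHom.id A C) C'.val)) := by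
  classical
  letI : Algebra C D := (θ.toRingHom.comp Algebra.TensorProduct.includeLeftRingHom).toAlgebra
  have : Algebra.FiniteType C D := hft
  obtain ⟨G, hG⟩ := this.out
  choose z hz using fun d : D => hθ d
  choose s hs using fun d : D => exists_fg_mem_range (A := A) (z d)
  let C' : Subalgebra A C := Algebra.adjoin A ((G.biUnion s : Finset C) : Set C)
  refine ⟨C', ⟨_, rfl⟩, fun d => ?_⟩
  let θ' := θ.comp (Algebra.TensorProduct.map (AlgHom.id A C) C'.val)
  let T : Subalgebra C D :=
    { carrier := Set.range θ'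
      mul_mem' := fun ⟨a, ha⟩ ⟨b, hb⟩ => ⟨a * b, by rw [map_mul, ha, hb]⟩
      add_mem' := fun ⟨a, ha⟩ ⟨b, hb⟩ => ⟨a + b, by rw [map_add, ha, hb]⟩
      algebraMap_mem' := fun c => ⟨c ⊗ₜ 1, by simp [θ', RingHom.algebraMap_toAlgebra]⟩ }
  have hle : Algebra.adjoin C (G : Set D) ≤ T := Algebra.adjoin_le fun g hg => by
    obtain ⟨w, hw⟩ := hs g C' (fun a ha => Algebra.subset_adjoin
      (Finset.mem_biUnion.2 ⟨g, hg, ha⟩))
    have hw' : Algebra.TensorProduct.map (AlgHom.id A C) C'.val w = z g := hw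
    exact ⟨w, (congrArg θ hw').trans (hz g)⟩
  exact (hG ▸ hle) (Algebra.mem_top (x := d))

/-- Universal closedness descends along universally open surjections. -/
theorem universallyClosed_of_pullback {X Y P Y' : Scheme.{u}} {q : X ⟶ Y} {g : Y' ⟶ Y} {p₁ : P ⟶ X} {p₂ : P ⟶ Y'}
    (sq : IsPullback p₁ p₂ q g) [Surjective g] [UniversallyOpen g] [UniversallyClosed p₂] :
    UniversallyClosed q := by
  constructor
  intro X₁ Y₁ i₁ i₂ q₁ H Z hZ
  let g₁ := pullback.fst i₂ g
  have : UniversallyOpen g₁ := MorphismProperty.pullback_fst (P := @UniversallyOpen) _ _ ‹_›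
  have : Surjective g₁ := MorphismProperty.pullback_fst (P := @Surjective) _ _ ‹_›
  let a := pullback.fst q₁ g₁
  let b := pullback.snd q₁ g₁
  have sq₁ : IsPullback (a ≫ i₁) b q (g₁ ≫ i₂) := (IsPullback.of_hasPullback q₁ g₁).paste_horiz H.flip
  rw [show g₁ ≫ i₂ = pullback.snd i₂ g ≫ g from pullback.condition] at sq₁
  have hb : IsClosedMap b := by
    have : UniversallyClosed b := by
      have sq₂ : IsPullback (sq.lift (a ≫ i₁) (b ≫ pullback.snd i₂ g) (sq₁.w.trans (Category.assoc _ _ _).symm))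
          b p₂ (pullback.snd i₂ g) :=
        IsPullback.of_right (by rw [IsPullback.lift_fst]; exact sq₁) (IsPullback.lift_snd _ _ _ _) sq
      exact MorphismProperty.of_isPullback (P := @UniversallyClosed) sq₂ ‹_›
    exact b.isClosedMap
  have e : g₁ ⁻¹' (q₁ '' Z) = b '' (a ⁻¹' Z) := by
    ext y
    constructor
    · rintro ⟨x, hx, hxy⟩
      obtain ⟨w, hw₁, hw₂⟩ := Scheme.Pullback.exists_preimage_pullback (f := q₁) (g := g₁) x y hxy
      exact ⟨w, show a w ∈ Z by rw [hw₁]; exact hx, hw₂⟩
    · rintro ⟨w, hw, rfl⟩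
      exact ⟨a w, hw, by rw [← Scheme.Hom.comp_apply, ← Scheme.Hom.comp_apply, pullback.condition]⟩
  have hq : Topology.IsQuotientMap g₁ :=
    (g₁.isOpenMap).isQuotientMap g₁.continuous g₁.surjective
  exact hq.isClosed_preimage.1 (by rw [e]; exact hb _ (hZ.preimage a.continuous))

theorem surjective_of_closedImmersion_spec {R S : CommRingCat.{u}} (f : R ⟶ S) [IsClosedImmersion (Spec.map f)] :
    Function.Surjective f := by
  have h := (IsClosedImmersion.isAffine_surjective_of_isAffine (Spec.map f)).2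
  have e : f = (Scheme.ΓSpecIso R).inv ≫ (Spec.map f).appTop ≫ (Scheme.ΓSpecIso S).hom := by simp
  rw [e]
  simp only [CommRingCat.hom_comp, RingHom.coe_comp]
  exact ((ConcreteCategory.bijective_of_isIso (Scheme.ΓSpecIso S).hom).2.comp h).comp
    (ConcreteCategory.bijective_of_isIso (Scheme.ΓSpecIso R).inv).2

theorem exists_qf_model_spec {A C D : Type u} [CommRing A] [CommRing C] [CommRing D] [Algebra A C] [Algebra A D]
    [UniversallyOpen (Spec.map (CommRingCat.ofHom (algebraMap A C)))]
    [Surjective (Spec.map (CommRingCat.ofHom (algebraMap A C)))]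
    (hfin : ∀ y, ((Spec.map (CommRingCat.ofHom (algebraMap A C))) ⁻¹' {y}).Finite)
    (θ : C ⊗[A] C →ₐ[A] D) (hθ : Function.Surjective θ) [Surjective (Spec.map (CommRingCat.ofHom θ.toRingHom))]
    (hft : (θ.toRingHom.comp Algebra.TensorProduct.includeLeftRingHom).FiniteType) :
    ∃ C' : Subalgebra A C, IsIntegralHom (Spec.map (CommRingCat.ofHom C'.val.toRingHom)) ∧
      LocallyOfFiniteType (Spec.map (CommRingCat.ofHom (algebraMap A C'))) ∧
      LocallyQuasiFinite (Spec.map (CommRingCat.ofHom (algebraMap A C'))) := by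
  obtain ⟨C', hfg, hsurj⟩ := exists_fg_model θ hθ hft
  let b := Spec.map (CommRingCat.ofHom (algebraMap A C))
  let π := Spec.map (CommRingCat.ofHom (algebraMap A C'))
  let q := Spec.map (CommRingCat.ofHom C'.val.toRingHom)
  have hqπ : q ≫ π = b := by rw [← Spec.map_comp]; rfl
  let F := Algebra.TensorProduct.map (AlgHom.id A C) C'.val
  let M := Spec.map (CommRingCat.ofHom F.toRingHom)
  have : UniversallyClosed M := by
    have : IsClosedImmersion (Spec.map (CommRingCat.ofHom θ.toRingHom) ≫ M) := by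
      rw [← Spec.map_comp]
      exact IsClosedImmersion.spec_of_surjective _ hsurj
    exact UniversallyClosed.of_comp_surjective (Spec.map (CommRingCat.ofHom θ.toRingHom)) M
  let M' := (pullbackSpecIso A C C).hom ≫ M ≫ (pullbackSpecIso A C C').inv
  have : UniversallyClosed M' := inferInstance
  have hM₁ : M' ≫ pullback.fst b π = pullback.fst b b := by
    simp only [M', Category.assoc]
    rw [pullbackSpecIso_inv_fst, ← Spec.map_comp, ← pullbackSpecIso_hom_fst A C C, ← CommRingCat.ofHom_comp]
    congr 3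
  have hM₂ : M' ≫ pullback.snd b π = pullback.snd b b ≫ q := by
    simp only [M', Category.assoc]
    rw [pullbackSpecIso_inv_snd, ← Spec.map_comp, ← pullbackSpecIso_hom_snd A C C, Category.assoc, ← Spec.map_comp,
      ← CommRingCat.ofHom_comp, ← CommRingCat.ofHom_comp]
    congr 3
  have sqM : IsPullback (pullback.snd b b) M' q (pullback.snd b π) := by
    refine IsPullback.of_bot ?_ hM₂.symm (IsPullback.of_hasPullback b π).flip
    rw [hqπ, hM₁]
    exact (IsPullback.of_hasPullback b b).flip
  have : UniversallyOpen (pullback.snd b π) := MorphismProperty.pullback_snd (P := @UniversallyOpen) _ _ ‹_›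
  have : Surjective (pullback.snd b π) := MorphismProperty.pullback_snd (P := @Surjective) _ _ ‹_›
  have : UniversallyClosed q := universallyClosed_of_pullback sqM
  have : Algebra.FiniteType A C' := (Subalgebra.fg_iff_finiteType C').1 hfg
  have hlft : LocallyOfFiniteType π := by
    rw [HasRingHomProperty.Spec_iff (P := @LocallyOfFiniteType)]
    exact RingHom.finiteType_algebraMap.2 ‹_›
  refine ⟨C', IsIntegralHom.iff_universallyClosed_and_isAffineHom.2 ⟨‹_›, inferInstance⟩, hlft, ?_⟩
  have : DenseRange q := PrimeSpectrum.denseRange_comap_iff_ker_le_nilRadical _ |>.2 (by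
    rw [(RingHom.injective_iff_ker_eq_bot _).1 Subtype.val_injective]; exact bot_le)
  have hqs : Function.Surjective q := fun z => by
    have h := q.isClosedMap.isClosed_range.closure_eq
    rw [this.closure_eq] at h
    exact (h ▸ Set.mem_univ z : z ∈ Set.range q)
  refine LocallyQuasiFinite.of_finite_preimage_singleton π fun y => ((hfin y).image q).subset fun z hz => ?_
  obtain ⟨u, rfl⟩ := hqs z
  exact ⟨u, by show b u = y; rw [← hqπ, Scheme.Hom.comp_apply]; exact hz, rfl⟩

theorem exists_qf_model {R U Y : Scheme.{u}} [IsAffine U] [IsAffine Y] (b : U ⟶ Y) [UniversallyOpen b]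
    [Surjective b] (hfin : ∀ y, (b ⁻¹' {y}).Finite) (r : R ⟶ pullback b b) [IsClosedImmersion r] [Surjective r]
    [LocallyOfFiniteType (r ≫ pullback.fst b b)] :
    ∃ (U' : Scheme.{u}) (q : U ⟶ U') (π : U' ⟶ Y), IsAffine U' ∧ q ≫ π = b ∧ IsIntegralHom q ∧
      LocallyOfFiniteType π ∧ LocallyQuasiFinite π := by
  let φ := b.appTop
  let _ : Algebra Γ(Y, ⊤) Γ(U, ⊤) := φ.hom.toAlgebra
  let bS := Spec.map (CommRingCat.ofHom (algebraMap Γ(Y, ⊤) Γ(U, ⊤)))
  have hb : b ≫ Y.isoSpec.hom = U.isoSpec.hom ≫ bS := (Scheme.isoSpec_hom_naturality b).symm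
  have hbS : bS = U.isoSpec.inv ≫ b ≫ Y.isoSpec.hom := by rw [hb, Iso.inv_hom_id_assoc]
  let E := pullback.map b b bS bS U.isoSpec.hom U.isoSpec.hom Y.isoSpec.hom hb hb
  have : UniversallyOpen bS := by
    rw [hbS, MorphismProperty.cancel_left_of_respectsIso @UniversallyOpen,
      MorphismProperty.cancel_right_of_respectsIso @UniversallyOpen]
    infer_instance
  have : Surjective bS := by
    rw [hbS, MorphismProperty.cancel_left_of_respectsIso @Surjective,
      MorphismProperty.cancel_right_of_respectsIso @Surjective]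
    infer_instance
  have : IsAffine R := isAffine_of_isAffineHom r
  let g := R.isoSpec.inv ≫ r ≫ E ≫ (pullbackSpecIso Γ(Y, ⊤) Γ(U, ⊤) Γ(U, ⊤)).hom
  obtain ⟨θ₀, hθ₀⟩ := Spec.map_surjective g
  let _ : Algebra Γ(Y, ⊤) Γ(R, ⊤) :=
    (θ₀.hom.comp (algebraMap Γ(Y, ⊤) (Γ(U, ⊤) ⊗[Γ(Y, ⊤)] Γ(U, ⊤)))).toAlgebra
  let θ : Γ(U, ⊤) ⊗[Γ(Y, ⊤)] Γ(U, ⊤) →ₐ[Γ(Y, ⊤)] Γ(R, ⊤) := { θ₀.hom with commutes' := fun _ => rfl }
  have : Surjective g := inferInstance
  have : IsClosedImmersion g := inferInstance
  have hSθ : Spec.map (CommRingCat.ofHom θ.toRingHom) = g := hθ₀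
  have : Surjective (Spec.map (CommRingCat.ofHom θ.toRingHom)) := by rw [hSθ]; infer_instance
  have : IsClosedImmersion (Spec.map (CommRingCat.ofHom θ.toRingHom)) := by rw [hSθ]; infer_instance
  have hsurj : Function.Surjective θ := surjective_of_closedImmersion_spec (CommRingCat.ofHom θ.toRingHom)
  have hft : (θ.toRingHom.comp Algebra.TensorProduct.includeLeftRingHom).FiniteType := by
    have h : LocallyOfFiniteType
        (Spec.map (CommRingCat.ofHom (θ.toRingHom.comp Algebra.TensorProduct.includeLeftRingHom))) := by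
      rw [CommRingCat.ofHom_comp, Spec.map_comp, hSθ]
      simp only [g, Category.assoc, pullbackSpecIso_hom_fst]
      rw [show E ≫ pullback.fst bS bS = pullback.fst b b ≫ U.isoSpec.hom from pullback.lift_fst _ _ _]
      rw [← Category.assoc r, MorphismProperty.cancel_left_of_respectsIso @LocallyOfFiniteType,
        MorphismProperty.cancel_right_of_respectsIso @LocallyOfFiniteType]
      infer_instance
    rw [HasRingHomProperty.Spec_iff (P := @LocallyOfFiniteType)] at h
    exact h
  have hfin' : ∀ y, (bS ⁻¹' {y}).Finite := fun y => by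
    refine ((hfin (Y.isoSpec.inv y)).image U.isoSpec.hom).subset fun x hx => ⟨U.isoSpec.inv x, ?_, by
      rw [← Scheme.Hom.comp_apply, Iso.inv_hom_id]; rfl⟩
    show b (U.isoSpec.inv x) = Y.isoSpec.inv y
    rw [← Scheme.Hom.comp_apply, show U.isoSpec.inv ≫ b = bS ≫ Y.isoSpec.inv by
      rw [hbS, Category.assoc, Category.assoc, Iso.hom_inv_id, Category.comp_id], Scheme.Hom.comp_apply]
    exact congrArg Y.isoSpec.inv hx
  obtain ⟨C', h1, h2, h3⟩ := exists_qf_model_spec hfin' θ hsurj hft
  refine ⟨_, U.isoSpec.hom ≫ Spec.map (CommRingCat.ofHom C'.val.toRingHom),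
    Spec.map (CommRingCat.ofHom (algebraMap Γ(Y, ⊤) C')) ≫ Y.isoSpec.inv, inferInstance, ?_, inferInstance,
    inferInstance, inferInstance⟩
  rw [Category.assoc, ← Category.assoc (Spec.map _), ← Spec.map_comp, ← Iso.eq_inv_comp, Iso.comp_inv_eq,
    Category.assoc, ← hbS]
  rfl

end Groth.Agent.AlgSpMS
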