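import Groth.Agent.AlgSpDec.FreeQuotSep
import Groth.Agent.AlgSpDec.Glue
import Mathlib.AlgebraicGeometry.Morphisms.FlatMono

/-!
# The scheme of tuples of pairwise distinct points of an affine chart
-/

set_option backward.isDefEq.respectTransparency false
set_option backward.isDefEq.respectTransparency.types false

universe u

open CategoryTheory Limits AlgebraicGeometry AlgSp Groth.Agent.AlgSpLib Groth.Agent.AlgSpPts

namespace Groth.Agent.AlgSpMS

variable {S : Scheme.{u}} {X : Sp S} {U : Over S} {a : (yon S).obj U ⟶ X}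

theorem pair_props (ha : RepWith @Etale a) [IsAffine U.left] :
    Etale (ha.rep.snd a).left ∧ IsSeparated (ha.rep.snd a).left ∧
      ∃ e : U ⟶ ha.rep.pullback a, e ≫ ha.rep.fst' a = 𝟙 U ∧ e ≫ ha.rep.snd a = 𝟙 U ∧
        IsClosedImmersion e.left ∧ IsOpenImmersion e.left := by
  let t : ha.rep.pullback a ⟶ U := ha.rep.fst' a
  let s : ha.rep.pullback a ⟶ U := ha.rep.snd a
  have sq : IsPullback ((yon S).map t) ((yon S).map s) a a := ha.rep.isPullback' a
  have hs : Etale s.left := ha.property_snd a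
  let j : ha.rep.pullback a ⟶ U ⨯ U := prod.lift t s
  have : Mono j := ⟨fun p q h => (yon S).map_injective (sq.hom_ext
    (by rw [← Functor.map_comp, ← Functor.map_comp]
        exact congrArg (yon S).map (by simpa [j] using congrArg (fun m => m ≫ (prod.fst : U ⨯ U ⟶ U)) h))
    (by rw [← Functor.map_comp, ← Functor.map_comp]
        exact congrArg (yon S).map (by simpa [j] using congrArg (fun m => m ≫ (prod.snd : U ⨯ U ⟶ U)) h)))⟩
  have : Mono j.left := (Over.forget S).map_mono j
  have hU : IsSeparated U.hom := inferInstance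
  have := AlgSpDec.FreeAction.isSeparated_prod_snd hU
  have hsep : IsSeparated s.left := by
    rw [show s.left = j.left ≫ (prod.snd : U ⨯ U ⟶ U).left by rw [← Over.comp_left, prod.lift_snd]]
    infer_instance
  obtain ⟨e, he⟩ := (yon S).map_surjective (sq.lift (𝟙 _) (𝟙 _) rfl)
  have het : e ≫ t = 𝟙 U := (yon S).map_injective (by
    rw [Functor.map_comp, he, CategoryTheory.Functor.map_id, IsPullback.lift_fst])
  have hes : e ≫ s = 𝟙 U := (yon S).map_injective (by
    rw [Functor.map_comp, he, CategoryTheory.Functor.map_id, IsPullback.lift_snd])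
  have h1 : e.left ≫ s.left = 𝟙 U.left := by rw [← Over.comp_left, hes, Over.id_left]
  have : IsClosedImmersion (e.left ≫ s.left) := by rw [h1]; infer_instance
  have hc : IsClosedImmersion e.left := IsClosedImmersion.of_comp e.left s.left
  have : Etale (e.left ≫ s.left) := by rw [h1]; infer_instance
  have : Etale e.left := MorphismProperty.of_postcomp (W := @Etale) (W' := @Etale) e.left s.left hs ‹_›
  exact ⟨hs, hsep, e, het, hes, hc, IsOpenImmersion.of_flat_of_mono e.left⟩

/-- Tuples of points of an etale affine chart with the same image form a separated etale scheme over it. -/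
theorem exists_tuples (ha : RepWith @Etale a) [IsAffine U.left] (n : ℕ) :
    ∃ (P : Over S) (v : Fin (n + 1) → (P ⟶ U)),
      (∀ i j, (yon S).map (v i) ≫ a = (yon S).map (v j) ≫ a) ∧
      (∀ (T : Over S) (w : Fin (n + 1) → (T ⟶ U)), (∀ i j, (yon S).map (w i) ≫ a = (yon S).map (w j) ≫ a) →
        ∃ φ : T ⟶ P, ∀ i, φ ≫ v i = w i) ∧
      (∀ (T : Over S) (φ φ' : T ⟶ P), (∀ i, φ ≫ v i = φ' ≫ v i) → φ = φ') ∧
      Etale (v 0).left ∧ IsSeparated (v 0).left := by
  induction n with
  | zero =>
    refine ⟨U, fun _ => 𝟙 U, fun i j => rfl, fun T w _ => ⟨w 0, fun i => ?_⟩, fun T φ φ' h => ?_, ?_, ?_⟩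
    · rw [Category.comp_id, Subsingleton.elim (α := Fin 1) i 0]
    · simpa using h 0
    · rw [Over.id_left]; infer_instance
    · rw [Over.id_left]; infer_instance
  | succ n ih =>
    obtain ⟨P, v, hv, hl, hu, he, hsp⟩ := ih
    obtain ⟨hs, hsep, -⟩ := pair_props ha
    let t : ha.rep.pullback a ⟶ U := ha.rep.fst' a
    let s : ha.rep.pullback a ⟶ U := ha.rep.snd a
    have sq : IsPullback ((yon S).map t) ((yon S).map s) a a := ha.rep.isPullback' a
    let π : pullback (v 0) t ⟶ P := pullback.fst (v 0) t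
    let q : pullback (v 0) t ⟶ ha.rep.pullback a := pullback.snd (v 0) t
    have hπq : π ≫ v 0 = q ≫ t := pullback.condition
    have sqP : IsPullback π.left q.left (v 0).left t.left :=
      (IsPullback.of_hasPullback (v 0) t).map (Over.forget S)
    have hq1 : Etale q.left := MorphismProperty.of_isPullback (P := @Etale) sqP he
    have hq2 : IsSeparated q.left := MorphismProperty.of_isPullback (P := @IsSeparated) sqP hsp
    have hy : (yon S).map (q ≫ s) ≫ a = (yon S).map (π ≫ v 0) ≫ a := by
      rw [hπq, Functor.map_comp, Functor.map_comp, Category.assoc, Category.assoc, sq.w]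
    have hall : ∀ i, (yon S).map (Fin.cons (α := fun _ => pullback (v 0) t ⟶ U) (q ≫ s) (fun k => π ≫ v k) i) ≫ a =
        (yon S).map (π ≫ v 0) ≫ a := by
      refine Fin.cases ?_ (fun k => ?_)
      · rw [Fin.cons_zero]; exact hy
      · rw [Fin.cons_succ, Functor.map_comp, Functor.map_comp, Category.assoc, Category.assoc, hv k 0]
    refine ⟨pullback (v 0) t, Fin.cons (α := fun _ => pullback (v 0) t ⟶ U) (q ≫ s) (fun k => π ≫ v k), fun i j => (hall i).trans (hall j).symm,
      fun T w hw => ?_, fun T φ φ' h => ?_, ?_, ?_⟩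
    · obtain ⟨φ, hφ⟩ := hl T (fun k => w k.succ) fun i j => hw _ _
      obtain ⟨r, hr⟩ := (yon S).map_surjective
        (sq.lift ((yon S).map (w (Fin.succ 0))) ((yon S).map (w 0)) (hw _ _))
      have hrt : r ≫ t = w (Fin.succ 0) :=
        (yon S).map_injective (by rw [Functor.map_comp, hr, IsPullback.lift_fst])
      have hrs : r ≫ s = w 0 := (yon S).map_injective (by rw [Functor.map_comp, hr, IsPullback.lift_snd])
      refine ⟨pullback.lift φ r ((hφ 0).trans hrt.symm), Fin.cases ?_ (fun k => ?_)⟩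
      · rw [Fin.cons_zero, pullback.lift_snd_assoc, hrs]
      · rw [Fin.cons_succ, pullback.lift_fst_assoc, hφ k]
    · have hP : φ ≫ π = φ' ≫ π := hu T _ _ fun k => by
        have := h k.succ
        simpa only [Fin.cons_succ, Category.assoc] using this
      refine pullback.hom_ext hP ((yon S).map_injective (sq.hom_ext ?_ ?_))
      · rw [← Functor.map_comp, ← Functor.map_comp, Category.assoc, Category.assoc, ← hπq, reassoc_of% hP]
      · rw [← Functor.map_comp, ← Functor.map_comp]
        have := h 0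
        simp only [Fin.cons_zero] at this
        simpa only [Category.assoc] using congrArg (yon S).map this
    · rw [Fin.cons_zero]
      exact inferInstanceAs (Etale (q.left ≫ s.left))
    · rw [Fin.cons_zero]
      exact inferInstanceAs (IsSeparated (q.left ≫ s.left))

set_option maxHeartbeats 800000 in
/-- Tuples of pairwise distinct points, with the free permutation action. -/
theorem exists_distinct_tuples (ha : RepWith @Etale a) [IsAffine U.left] (ι : Type u) [Finite ι] (i₀ : ι) :
    ∃ (W : Over S) (v : ι → (W ⟶ U)) (ρ : Equiv.Perm ι →* Aut W),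
      (∀ i j, (yon S).map (v i) ≫ a = (yon S).map (v j) ≫ a) ∧
      (∀ (T : Over S) (w : ι → (T ⟶ U)), (∀ i j, (yon S).map (w i) ≫ a = (yon S).map (w j) ≫ a) →
        (∀ z : T.left, Function.Injective fun i => T.left.fromSpecResidueField z ≫ (w i).left) →
        ∃ φ : T ⟶ W, ∀ i, φ ≫ v i = w i) ∧
      (∀ (T : Over S) (φ φ' : T ⟶ W), (∀ i, φ ≫ v i = φ' ≫ v i) → φ = φ') ∧
      (∀ σ i, (ρ σ).hom ≫ v i = v (σ⁻¹ i)) ∧
      (∀ (σ : Equiv.Perm ι) (z : W.left), σ ≠ 1 →
        W.left.fromSpecResidueField z ≫ (ρ σ).hom.left ≠ W.left.fromSpecResidueField z) ∧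
      Etale (v i₀).left ∧ IsSeparated (v i₀).left := by
  obtain ⟨n, ⟨e₀⟩⟩ := Finite.exists_equiv_fin ι
  obtain ⟨m, rfl⟩ : ∃ m, n = m + 1 := ⟨n - 1, by have := (e₀ i₀).pos; omega⟩
  let e : Fin (m + 1) ≃ ι := ((Equiv.swap 0 (e₀ i₀)).trans e₀.symm)
  have he0 : e 0 = i₀ := by simp [e]
  obtain ⟨P, v', hv', hl', hu', het, hsp⟩ := exists_tuples ha m
  let v : ι → (P ⟶ U) := fun i => v' (e.symm i)
  obtain ⟨hs, hsep, d, hdt, hds, hdc, hdo⟩ := pair_props ha
  let t : ha.rep.pullback a ⟶ U := ha.rep.fst' a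
  let s : ha.rep.pullback a ⟶ U := ha.rep.snd a
  have sq : IsPullback ((yon S).map t) ((yon S).map s) a a := ha.rep.isPullback' a
  have hv : ∀ i j, (yon S).map (v i) ≫ a = (yon S).map (v j) ≫ a := fun i j => hv' _ _
  have hr : ∀ i j, ∃ r : P ⟶ ha.rep.pullback a, r ≫ t = v i ∧ r ≫ s = v j := fun i j => by
    obtain ⟨r, hr⟩ := (yon S).map_surjective (sq.lift _ _ (hv i j))
    exact ⟨r, (yon S).map_injective (by rw [Functor.map_comp, hr, IsPullback.lift_fst]),
      (yon S).map_injective (by rw [Functor.map_comp, hr, IsPullback.lift_snd])⟩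
  choose r hrt hrs using hr
  let D : ι → ι → P.left.Opens := fun i j =>
    (r i j).left ⁻¹ᵁ ⟨(Set.range d.left)ᶜ, d.left.isClosedEmbedding.isClosed_range.isOpen_compl⟩
  have hD : ∀ (i j : ι) {K : Type u} [Field K] (x : Spec (CommRingCat.of K) ⟶ P.left)
      (y : Spec (CommRingCat.of K)), x y ∈ D i j ↔ x ≫ (v i).left ≠ x ≫ (v j).left := fun i j K _ x y => by
    show (r i j).left (x y) ∉ Set.range d.left ↔ _
    refine not_congr ⟨fun ⟨w, hw⟩ => ?_, fun h => ?_⟩
    · have hsub : Set.range (x ≫ (r i j).left) ⊆ Set.range d.left := by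
        rintro _ ⟨y', rfl⟩
        exact ⟨w, by rw [hw, Scheme.Hom.comp_apply, Subsingleton.elim y' y]⟩
      have hfac := IsOpenImmersion.lift_fac d.left (x ≫ (r i j).left) hsub
      rw [← hrt i j, Over.comp_left, ← Category.assoc, ← hfac]
      conv_rhs => rw [show (v j).left = (r i j).left ≫ s.left by rw [← Over.comp_left, hrs], ← Category.assoc,
        ← hfac]
      rw [Category.assoc, Category.assoc, ← Over.comp_left, ← Over.comp_left]
      congr 2
      exact hdt.trans hds.symm
    · let xO : Over.mk (x ≫ P.hom) ⟶ P := Over.homMk x rfl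
      have hxij : xO ≫ v i = xO ≫ v j := Over.OverMorphism.ext h
      have : xO ≫ r i j = (xO ≫ v i) ≫ d := (yon S).map_injective (sq.hom_ext
        (by rw [← Functor.map_comp, ← Functor.map_comp, Category.assoc, Category.assoc (xO ≫ v i), hrt, hdt,
          Category.comp_id])
        (by rw [← Functor.map_comp, ← Functor.map_comp, Category.assoc, Category.assoc (xO ≫ v i), hrs, hds,
          Category.comp_id, hxij]))
      exact ⟨(x ≫ (v i).left) y, (congrArg (fun m => m.left y) this).symm⟩
  let W₀ : P.left.Opens :=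
    ⟨⋂ p ∈ {p : ι × ι | p.1 ≠ p.2}, (D p.1 p.2 : Set P.left),
      Set.Finite.isOpen_biInter (Set.toFinite _) fun p _ => (D p.1 p.2).2⟩
  let W : Over S := Over.mk (W₀.ι ≫ P.hom)
  let ιW : W ⟶ P := Over.homMk W₀.ι rfl
  have hι : IsOpenImmersion ιW.left := inferInstanceAs (IsOpenImmersion W₀.ι)
  have hmono : Mono ιW := (Over.forget S).mono_of_mono_map (inferInstanceAs (Mono W₀.ι))
  let vW : ι → (W ⟶ U) := fun i => ιW ≫ v i
  have hcomm : ∀ i j, (yon S).map (vW i) ≫ a = (yon S).map (vW j) ≫ a := fun i j => by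
    rw [Functor.map_comp, Functor.map_comp, Category.assoc, Category.assoc, hv i j]
  have hlift : ∀ (T : Over S) (w : ι → (T ⟶ U)), (∀ i j, (yon S).map (w i) ≫ a = (yon S).map (w j) ≫ a) →
      (∀ z : T.left, Function.Injective fun i => T.left.fromSpecResidueField z ≫ (w i).left) →
      ∃ φ : T ⟶ W, ∀ i, φ ≫ vW i = w i := by
    intro T w hw hinj
    obtain ⟨φ, hφ⟩ := hl' T (fun k => w (e k)) fun i j => hw _ _
    have hφ' : ∀ i, φ ≫ v i = w i := fun i => (hφ (e.symm i)).trans (congrArg w (e.apply_symm_apply i))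
    have hrg : Set.range φ.left ⊆ Set.range W₀.ι := by
      rw [Scheme.Opens.range_ι]
      rintro _ ⟨z, rfl⟩
      refine Set.mem_iInter₂.2 fun p hp => ?_
      have := (hD p.1 p.2 (T.left.fromSpecResidueField z ≫ φ.left) (IsLocalRing.closedPoint _)).2 fun h => hp
        (hinj z (by
          show _ ≫ (w p.1).left = _ ≫ (w p.2).left
          rw [← hφ', ← hφ', Over.comp_left, Over.comp_left]
          simpa only [Category.assoc] using h))
      erw [Scheme.Hom.comp_apply, Scheme.fromSpecResidueField_apply] at this; exact this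
    refine ⟨Over.homMk (IsOpenImmersion.lift W₀.ι φ.left hrg)
      (by show _ ≫ W₀.ι ≫ P.hom = _; rw [IsOpenImmersion.lift_fac_assoc, Over.w φ]), fun i => ?_⟩
    rw [← hφ' i, ← Category.assoc]
    congr 1
    exact Over.OverMorphism.ext (IsOpenImmersion.lift_fac _ _ _)
  have hext : ∀ (T : Over S) (φ φ' : T ⟶ W), (∀ i, φ ≫ vW i = φ' ≫ vW i) → φ = φ' := fun T φ φ' h => by
    refine (cancel_mono ιW).1 (hu' T _ _ fun k => ?_)
    have := h (e k)
    simpa [vW, v] using this
  have hinjW : ∀ z : W.left, Function.Injective fun i => W.left.fromSpecResidueField z ≫ (vW i).left := by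
    intro z i j h
    by_contra hij
    refine (hD i j (W.left.fromSpecResidueField z ≫ ιW.left) (IsLocalRing.closedPoint _)).1 ?_ ?_
    · rw [Scheme.Hom.comp_apply]
      exact Eq.subst (motive := fun q => ιW.left q ∈ D i j) (Scheme.fromSpecResidueField_apply z _).symm
        (Set.mem_iInter₂.1 (z : ↥W₀.toScheme).2 (i, j) hij)
    · simpa only [Category.assoc, vW, Over.comp_left] using h
  have hact : ∀ σ : Equiv.Perm ι, ∃ φ : W ⟶ W, ∀ i, φ ≫ vW i = vW (σ⁻¹ i) := fun σ =>
    hlift W _ (fun i j => hcomm _ _) fun z => (hinjW z).comp (σ⁻¹).injective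
  choose act hact using hact
  have hmul : ∀ σ τ, act τ ≫ act σ = act (σ * τ) := fun σ τ => hext _ _ _ fun i => by
    rw [Category.assoc, hact, hact, hact, mul_inv_rev, Equiv.Perm.mul_apply]
  have hone : act 1 = 𝟙 W := hext _ _ _ fun i => by rw [hact, inv_one, Category.id_comp]; rfl
  let A : Equiv.Perm ι → Aut W := fun σ =>
    { hom := act σ, inv := act σ⁻¹, hom_inv_id := by rw [hmul, inv_mul_cancel, hone],
      inv_hom_id := by rw [hmul, mul_inv_cancel, hone] }
  let ρ : Equiv.Perm ι →* Aut W :=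
    { toFun := A, map_one' := Iso.ext hone, map_mul' := fun σ τ => Iso.ext (hmul σ τ).symm }
  refine ⟨W, vW, ρ, hcomm, hlift, hext, hact, fun σ z hσ h => hσ (Equiv.ext fun i => ?_), ?_, ?_⟩
  · have := congrArg (fun m => m ≫ (vW (σ i)).left) h
    simp only [Category.assoc] at this
    rw [show (ρ σ).hom.left ≫ (vW (σ i)).left = (vW i).left by
      rw [← Over.comp_left, show (ρ σ).hom = act σ from rfl, hact]; simp] at this
    exact (hinjW z this).symm
  · have : v i₀ = v' 0 := congrArg v' (by rw [← he0, Equiv.symm_apply_apply])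
    show Etale (ιW.left ≫ (v i₀).left)
    rw [this]; infer_instance
  · have : v i₀ = v' 0 := congrArg v' (by rw [← he0, Equiv.symm_apply_apply])
    show IsSeparated (ιW.left ≫ (v i₀).left)
    rw [this]; infer_instance

end Groth.Agent.AlgSpMS
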