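import Groth.Agent.AlgSpMS.IntegralApprox
import Groth.Agent.AlgSpPts.Univ
import Groth.Agent.AlgSpDec.AffineClassQuot
import Groth.Agent.AlgSpDec.LimDescent
import Groth.Agent.AlgSpLib.AffineDescProps
import Groth.Agent.AlgSpLib.LocalBaseTop
import Groth.Agent.AlgSpLib.EtLocalInst
import Groth.Agent.LimMor.Chevalley
import Groth.Prelude.Def_AlgSpDec
import Mathlib.AlgebraicGeometry.ZariskisMainTheorem

/-!
# Separated universal homeomorphisms of algebraic spaces are affine and integral
-/

set_option backward.isDefEq.respectTransparency false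
set_option backward.isDefEq.respectTransparency.types false

universe u

open CategoryTheory Limits Opposite AlgebraicGeometry AlgSp Groth.Agent.AlgSpLib Groth.Agent.AlgSpPts Topology

namespace Groth.Agent.AlgSpMS

variable {S : Scheme.{u}} {F G : Sp S}

theorem univSp_of_isPullback {Q : MorphismProperty (Sp S)} {F' G' : Sp S} {f : F ⟶ G} {g : G' ⟶ G} {fst : F' ⟶ F}
    {snd : F' ⟶ G'} (sq : IsPullback fst snd f g) (hf : UnivSp Q f) : UnivSp Q snd :=
  fun _ _ hZ g' _ _ sq' => hf hZ (g' ≫ g) _ _ (sq'.paste_horiz sq)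

theorem isAffineMor_to_yon {Y : Over S} [IsAffine Y.left] {P : Sp S} (p : P ⟶ (yon S).obj Y) {Z : Over S}
    [IsAffine Z.left] (e : (yon S).obj Z ≅ P) : IsAffineMor p := by
  obtain ⟨b, hb⟩ := (yon S).map_surjective (e.hom ≫ p)
  refine AlgSpDec.isAffineMor_of_repWith le_rfl ?_
  rw [show p = e.inv ≫ (yon S).map b by rw [hb, Iso.inv_hom_id_assoc]]
  exact repWith_comp (repWith_of_isIso _ _) ((repWith_yon_map_iff _ _).2 (inferInstance : IsAffineHom b.left))

variable {P : Sp S} {Y : Over S} {p : P ⟶ (yon S).obj Y}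

theorem universallyOpen_of_chart (hh : IsUnivHomeoMor p) {U : Over S} {a : (yon S).obj U ⟶ P}
    (ha : RepWith @Etale a) {b : U ⟶ Y} (hb : (yon S).map b = a ≫ p) : UniversallyOpen b.left := by
  have hu : UnivSp (fun _ _ g => IsOpenMap (Points.map g)) ((yon S).map b) := by
    intro Z Z' hZ g fst snd sq
    have sqP := IsPullback.of_hasPullback p g
    let l : Z' ⟶ pullback p g := pullback.lift (fst ≫ a) snd (by rw [Category.assoc, ← hb, sq.w])
    have sql : IsPullback fst l a (pullback.fst p g) := by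
      refine IsPullback.of_bot ?_ (pullback.lift_fst _ _ _).symm sqP
      rw [pullback.lift_snd, ← hb]
      exact sq
    have h1 : IsOpenMap (Points.map l) :=
      isOpenMap_map (repWith_mono (fun _ _ i (_ : Etale i) => inferInstanceAs (UniversallyOpen i)) _
        (repWith_of_isPullback sql ha))
    have h2 : IsHomeomorph (Points.map (pullback.snd p g)) := hh hZ g _ _ sqP
    show IsOpenMap (Points.map snd)
    rw [show snd = l ≫ pullback.snd p g from (pullback.lift_snd _ _ _).symm,
      show Points.map (l ≫ pullback.snd p g) = Points.map (pullback.snd p g) ∘ Points.map l from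
        funext fun x => Points.map_comp _ _ x]
    exact h2.isOpenMap.comp h1
  have h := repWith_universally_of_univSp (P := topologically @IsOpenMap) (Q := fun _ _ g => IsOpenMap (Points.map g))
    (fun V U g hg => by
      show IsOpenMap g.left
      rw [left_eq_conj g]
      exact (Points.schemeHomeo U).symm.isOpenMap.comp (hg.comp (Points.schemeHomeo V).isOpenMap))
    ((IsAlgSpace.yon_obj Y).representable_from_yon ((yon S).map b)) hu
  exact ⟨(repWith_yon_map_iff _ _).1 h⟩

theorem exists_affine_etale_atlas (hP : IsAlgSpace P) (hh : IsUnivHomeoMor p) [IsAffine Y.left] :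
    ∃ (U : Over S) (a : (yon S).obj U ⟶ P), IsAffine U.left ∧ RepWith @Etale a ∧ RepWith @Surjective a := by
  have h : IsHomeomorph (Points.map p) := hh (IsAlgSpace.yon_obj Y) (𝟙 _) (𝟙 P) p (IsPullback.id_horiz p)
  have : CompactSpace (Points ((yon S).obj Y)) := (Points.schemeHomeo Y).compactSpace
  have : CompactSpace (Points P) := h.homeomorph.symm.compactSpace
  exact AlgSpDec.exists_affine_atlas (isQuasiCompactSp_of_compactSpace hP)

/-- Geometric points of the chart over the same point of the base are related. -/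
theorem surjective_rel_to_baseProd (hh : IsUnivHomeoMor p) {U R Q : Over S} {a : (yon S).obj U ⟶ P}
    {t s : R ⟶ U} (sqR : IsPullback ((yon S).map t) ((yon S).map s) a a)
    {b : U ⟶ Y} (hb : (yon S).map b = a ≫ p) {p₁ p₂ : Q ⟶ U} (sqQ : IsPullback p₁ p₂ b b)
    {r : R ⟶ Q} (h₁ : r ≫ p₁ = t) (h₂ : r ≫ p₂ = s) : Surjective r.left := by
  refine ⟨fun z => ?_⟩
  let K := Q.left.residueField z
  let str := Q.left.fromSpecResidueField z ≫ Q.hom
  let TK : Over S := Over.mk str
  let ζ : TK ⟶ Q := Over.homMk (Q.left.fromSpecResidueField z) rfl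
  let y : TK ⟶ Y := ζ ≫ p₁ ≫ b
  have sqP := IsPullback.of_hasPullback p ((yon S).map y)
  let x₁ := (yon S).map (ζ ≫ p₁) ≫ a
  let x₂ := (yon S).map (ζ ≫ p₂) ≫ a
  have hx₁ : x₁ ≫ p = 𝟙 _ ≫ (yon S).map y := by
    simp only [x₁, y, Category.assoc, ← hb, Category.id_comp, Functor.map_comp]
  have hx₂ : x₂ ≫ p = 𝟙 _ ≫ (yon S).map y := by
    simp only [x₂, y, Category.assoc, ← hb, Category.id_comp, ← Functor.map_comp, sqQ.w]
  let l₁ := pullback.lift x₁ (𝟙 _) hx₁
  let l₂ := pullback.lift x₂ (𝟙 _) hx₂
  let q₁ : FieldPt (pullback p ((yon S).map y)) :=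
    { K := K, str := str, val := (J S).uliftYonedaEquiv l₁ }
  let q₂ : FieldPt (pullback p ((yon S).map y)) :=
    { K := K, str := str, val := (J S).uliftYonedaEquiv l₂ }
  have hinj := (hh (IsAlgSpace.yon_obj TK) ((yon S).map y) _ _ sqP).injective
  have hq : Points.mk q₁ = Points.mk q₂ := hinj (by
    have : Subsingleton ↥TK.left := inferInstanceAs (Subsingleton (PrimeSpectrum K))
    have : Subsingleton (Points ((yon S).obj TK)) := (Points.schemeHomeo TK).symm.injective.subsingleton
    exact Subsingleton.elim _ _)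
  obtain ⟨Ω, _, w, c, d, hcd⟩ := Points.mk_eq_mk_iff.1 hq
  let c' : Over.mk w ⟶ TK := c
  let d' : Over.mk w ⟶ TK := d
  have e : (yon S).map c' ≫ l₁ = (yon S).map d' ≫ l₂ := by
    apply (J S).uliftYonedaEquiv.injective
    rw [← uliftYonedaEquiv_precomp, ← uliftYonedaEquiv_precomp]
    exact hcd
  have hcd' : c' = d' := (yon S).map_injective (by
    have := congrArg (· ≫ pullback.snd p ((yon S).map y)) e
    simpa only [l₁, l₂, Category.assoc, pullback.lift_snd, Category.comp_id] using this)
  have e' : (yon S).map (c' ≫ ζ ≫ p₁) ≫ a = (yon S).map (c' ≫ ζ ≫ p₂) ≫ a := by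
    have := congrArg (· ≫ pullback.fst p ((yon S).map y)) e
    simp only [l₁, l₂, x₁, x₂, Category.assoc, pullback.lift_fst, ← hcd'] at this
    simpa only [Functor.map_comp, Category.assoc] using this
  obtain ⟨ρ, hρ⟩ := (yon S).map_surjective (sqR.lift _ _ e')
  have hρt : ρ ≫ t = c' ≫ ζ ≫ p₁ := (yon S).map_injective (by rw [Functor.map_comp, hρ, IsPullback.lift_fst])
  have hρs : ρ ≫ s = c' ≫ ζ ≫ p₂ := (yon S).map_injective (by rw [Functor.map_comp, hρ, IsPullback.lift_snd])
  have hρr : ρ ≫ r = c' ≫ ζ := sqQ.hom_ext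
    (by rw [Category.assoc, h₁, hρt, Category.assoc]) (by rw [Category.assoc, h₂, hρs, Category.assoc])
  refine ⟨ρ.left (IsLocalRing.closedPoint Ω), ?_⟩
  rw [← Scheme.Hom.comp_apply, ← Over.comp_left, hρr, Over.comp_left, Scheme.Hom.comp_apply]
  exact Scheme.fromSpecResidueField_apply z _

/-- The relation of a separated space maps by a closed immersion to the fibre product over the base. -/
theorem isClosedImmersion_rel_to_baseProd (hsep : IsSeparatedMor p) {U R Q : Over S} {a : (yon S).obj U ⟶ P}
    {t s : R ⟶ U} (sqR : IsPullback ((yon S).map t) ((yon S).map s) a a)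
    {b : U ⟶ Y} (hb : (yon S).map b = a ≫ p) {p₁ p₂ : Q ⟶ U} (sqQ : IsPullback p₁ p₂ b b)
    {r : R ⟶ Q} (h₁ : r ≫ p₁ = t) (h₂ : r ≫ p₂ = s) : IsClosedImmersion r.left := by
  let Δ := pullback.diagonal p
  let m : (yon S).obj Q ⟶ pullback p p := pullback.lift ((yon S).map p₁ ≫ a) ((yon S).map p₂ ≫ a) (by
    rw [Category.assoc, Category.assoc, ← hb, ← Functor.map_comp, ← Functor.map_comp, sqQ.w])
  have w : ((yon S).map t ≫ a) ≫ Δ = (yon S).map r ≫ m := by
    apply pullback.hom_ext
    · simp only [Δ, m, Category.assoc, pullback.diagonal_fst, pullback.lift_fst, Category.comp_id,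
        ← h₁, Functor.map_comp]
    · simp only [Δ, m, Category.assoc, pullback.diagonal_snd, pullback.lift_snd, Category.comp_id, sqR.w,
        ← h₂, Functor.map_comp]
  have h₁' : (yon S).map r ≫ (yon S).map p₁ = (yon S).map t := by rw [← Functor.map_comp, h₁]
  have h₂' : (yon S).map r ≫ (yon S).map p₂ = (yon S).map s := by rw [← Functor.map_comp, h₂]
  have sqQ' := sqQ.map (yon S)
  have sq : IsPullback ((yon S).map t ≫ a) ((yon S).map r) Δ m := by
    refine IsPullback.of_isLimit' ⟨w⟩ (PullbackCone.IsLimit.mk _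
      (fun c => sqR.lift (c.snd ≫ (yon S).map p₁) (c.snd ≫ (yon S).map p₂) ?_) ?_ ?_ ?_)
    · have e1 := congrArg (· ≫ pullback.fst p p) c.condition
      have e2 := congrArg (· ≫ pullback.snd p p) c.condition
      simp only [Δ, m, Category.assoc, pullback.diagonal_fst, pullback.diagonal_snd, pullback.lift_fst,
        pullback.lift_snd, Category.comp_id] at e1 e2
      rw [Category.assoc, Category.assoc, ← e1, ← e2]
    · intro c
      have e1 := congrArg (· ≫ pullback.fst p p) c.condition
      simp only [Δ, m, Category.assoc, pullback.diagonal_fst, pullback.lift_fst, Category.comp_id] at e1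
      rw [← Category.assoc, IsPullback.lift_fst, Category.assoc, ← e1]
    · intro c
      refine sqQ'.hom_ext ?_ ?_
      · rw [Category.assoc, h₁', IsPullback.lift_fst]
      · rw [Category.assoc, h₂', IsPullback.lift_snd]
    · intro c k _ hk₂
      refine sqR.hom_ext ?_ ?_
      · rw [IsPullback.lift_fst, ← hk₂, Category.assoc, h₁']
      · rw [IsPullback.lift_snd, ← hk₂, Category.assoc, h₂']
  exact hsep.property m ((yon S).map t ≫ a) r sq

/-- Etale locally on the base, the space is affine. -/
theorem exists_etale_nhd_affine [IsAffine Y.left] (hP : IsAlgSpace P) (hsep : IsSeparatedMor p)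
    (hh : IsUnivHomeoMor p) (y : Y.left) :
    ∃ (Y' : Over S) (g : Y' ⟶ Y), IsAffine Y'.left ∧ Etale g.left ∧ y ∈ Set.range g.left ∧
      ∃ Z : Over S, IsAffine Z.left ∧ Nonempty ((yon S).obj Z ≅ pullback p ((yon S).map g)) := by
  obtain ⟨U, a, hU, ha, has⟩ := exists_affine_etale_atlas hP hh
  obtain ⟨b, hb⟩ := (yon S).map_surjective (a ≫ p)
  have hbo : UniversallyOpen b.left := universallyOpen_of_chart hh ha hb
  have hp : IsHomeomorph (Points.map p) := hh (IsAlgSpace.yon_obj Y) (𝟙 _) (𝟙 P) p (IsPullback.id_horiz p)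
  have hbs : Surjective b.left := ⟨fun y => by
    obtain ⟨x, hx⟩ := hp.surjective (Points.ofScheme Y y)
    obtain ⟨u, rfl⟩ := surjective_ofPt has x
    refine ⟨u, (Points.schemeHomeo Y).injective ?_⟩
    rw [Points.map_ofPt, ← hb] at hx
    refine Eq.trans ?_ hx
    show Points.ofScheme Y _ = _
    rw [Points.ofPt_eq_map_ofScheme]
    exact (Points.map_yon_map_apply b u).symm⟩
  let Q : Over S := pullback b b
  have sqQ : IsPullback (pullback.fst b b) (pullback.snd b b) b b := IsPullback.of_hasPullback b b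
  let R := ha.rep.pullback a
  have sqR : IsPullback ((yon S).map (ha.rep.fst' a)) ((yon S).map (ha.rep.snd a)) a a := ha.rep.isPullback' a
  obtain ⟨r, hr₁, hr₂⟩ : ∃ r : R ⟶ Q, r ≫ pullback.fst b b = ha.rep.fst' a ∧
      r ≫ pullback.snd b b = ha.rep.snd a := by
    refine ⟨pullback.lift (ha.rep.fst' a) (ha.rep.snd a) ((yon S).map_injective ?_),
      pullback.lift_fst _ _ _, pullback.lift_snd _ _ _⟩
    rw [Functor.map_comp, Functor.map_comp, hb, ← Category.assoc, sqR.w, Category.assoc]
  have hrs := surjective_rel_to_baseProd hh sqR hb sqQ hr₁ hr₂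
  have hrc := isClosedImmersion_rel_to_baseProd hsep sqR hb sqQ hr₁ hr₂
  -- transport to the fibre product of schemes
  have sqQl : IsPullback (pullback.fst b b).left (pullback.snd b b).left b.left b.left := sqQ.map (Over.forget S)
  let ε := sqQl.isoPullback
  let r' : R.left ⟶ pullback b.left b.left := r.left ≫ ε.hom
  have hr'₁ : r' ≫ pullback.fst b.left b.left = (ha.rep.fst' a).left := by
    simp only [r', ε, Category.assoc, IsPullback.isoPullback_hom_fst, ← Over.comp_left, hr₁]
  have hr'₂ : r' ≫ pullback.snd b.left b.left = (ha.rep.snd a).left := by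
    simp only [r', ε, Category.assoc, IsPullback.isoPullback_hom_snd, ← Over.comp_left, hr₂]
  have : IsClosedImmersion r' := inferInstance
  have : Surjective r' := inferInstance
  have het : Etale (ha.rep.snd a).left := ha.property_snd a
  have het' : Etale (ha.rep.fst' a).left := ha.property a _ _ (ha.rep.isPullback' a).flip
  have : LocallyOfFiniteType (r' ≫ pullback.fst b.left b.left) := by rw [hr'₁]; infer_instance
  have : IsAffine R.left := isAffine_of_isAffineHom r'
  have hfin : ∀ y, (b.left ⁻¹' {y}).Finite := fun y => by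
    obtain ⟨u₀, hu₀⟩ := hbs.surj y
    have : QuasiCompact (ha.rep.snd a).left := inferInstance
    refine (((ha.rep.snd a).left.finite_preimage_singleton u₀).image (ha.rep.fst' a).left).subset fun u hu => ?_
    obtain ⟨z, hz₁, hz₂⟩ := Scheme.Pullback.exists_preimage_pullback (f := b.left) (g := b.left) u u₀
      (hu.trans hu₀.symm)
    obtain ⟨w, rfl⟩ := r'.surjective z
    refine ⟨w, ?_, ?_⟩
    · show (ha.rep.snd a).left w = u₀
      rw [← hr'₂, Scheme.Hom.comp_apply, hz₂]
    · rw [← hr'₁, Scheme.Hom.comp_apply, hz₁]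
  obtain ⟨U', q, π, hU', hqπ, hq, hπt, hπq⟩ := exists_qf_model b.left hfin r'
  obtain ⟨u, hu⟩ := hbs.surj y
  have hqf : π.QuasiFiniteAt (q u) := by
    have : q u ∈ π.quasiFiniteLocus := by rw [π.quasiFiniteLocus_eq_top]; trivial
    exact Scheme.Hom.mem_quasiFiniteLocus.1 this
  obtain ⟨V', g, hg, hyg, F₀, F₁, v, -, hF, hv⟩ := exists_etale_isCompl_of_quasiFiniteAt π
    (show π (q u) = y by rw [← Scheme.Hom.comp_apply, hqπ]; exact hu) hqf
  let qg : pullback b.left g ⟶ pullback π g :=
    pullback.map _ _ _ _ q (𝟙 _) (𝟙 _) (by rw [Category.comp_id, hqπ]) (by simp)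
  have hqg : qg ≫ pullback.snd π g = pullback.snd b.left g := by simp [qg]
  have sqg : IsPullback (pullback.fst b.left g) qg q (pullback.fst π g) := by
    refine IsPullback.of_bot ?_ (by simp [qg]) (IsPullback.of_hasPullback π g)
    rw [hqπ, hqg]
    exact IsPullback.of_hasPullback b.left g
  have hqgi : IsIntegralHom qg := MorphismProperty.of_isPullback (P := @IsIntegralHom) sqg hq
  let F' : (pullback b.left g).Opens := qg ⁻¹ᵁ F₀
  let h' : F'.toScheme ⟶ V' := F'.ι ≫ pullback.snd b.left g
  have : IsFinite (F₀.ι ≫ pullback.snd π g) := hF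
  have hh' : IsIntegralHom h' := by
    have : h' = (qg ∣_ F₀) ≫ F₀.ι ≫ pullback.snd π g := by
      rw [← Category.assoc, morphismRestrict_ι, Category.assoc, hqg]
    rw [this]
    have : IsIntegralHom (qg ∣_ F₀) := IsZariskiLocalAtTarget.restrict hqgi F₀
    infer_instance
  have hopen : UniversallyOpen (pullback.snd b.left g) :=
    MorphismProperty.pullback_snd (P := @UniversallyOpen) _ _ hbo
  let O : V'.Opens := ⟨Set.range h', (h'.isOpenMap).isOpen_range⟩
  obtain ⟨w₀, -, hw₀⟩ := Scheme.exists_preimage_of_isPullback sqg u v.1 hv.symm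
  have hyO : (pullback.snd π g) v.1 ∈ O := ⟨⟨w₀, show qg w₀ ∈ F₀ by rw [hw₀]; exact v.2⟩, by
    show (F'.ι ≫ pullback.snd b.left g) _ = _
    rw [Scheme.Hom.comp_apply, ← hqg, Scheme.Hom.comp_apply]
    exact congrArg (pullback.snd π g) hw₀⟩
  obtain ⟨W, hW, hvW, hWO⟩ := exists_isAffineOpen_mem_and_subset hyO
  let Y' : Over S := Over.mk ((W.ι ≫ g) ≫ Y.hom)
  have : IsAffine W.toScheme := hW
  have : IsAffine Y'.left := hW
  let gW : Y' ⟶ Y := Over.homMk (W.ι ≫ g) rfl
  let hW₀ : (h' ⁻¹ᵁ W).toScheme ⟶ W.toScheme := h' ∣_ W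
  have : IsIntegralHom hW₀ := IsZariskiLocalAtTarget.restrict hh' W
  let U₀ : Over S := Over.mk (hW₀ ≫ Y'.hom)
  have : IsAffine U₀.left := isAffine_of_isAffineHom (f := hW₀)
  let ω : U₀ ⟶ Y' := Over.homMk hW₀ rfl
  let u₀ : U₀ ⟶ U := Over.homMk ((h' ⁻¹ᵁ W).ι ≫ F'.ι ≫ pullback.fst b.left g) (by
    show ((h' ⁻¹ᵁ W).ι ≫ F'.ι ≫ pullback.fst b.left g) ≫ U.hom = hW₀ ≫ (W.ι ≫ g) ≫ Y.hom
    rw [← Over.w b, Category.assoc, Category.assoc, ← Category.assoc (pullback.fst b.left g), pullback.condition,
      ← Category.assoc hW₀, ← Category.assoc hW₀, morphismRestrict_ι]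
    simp only [h', Category.assoc])
  have hω : ω ≫ gW = u₀ ≫ b := Over.OverMorphism.ext (by
    show hW₀ ≫ W.ι ≫ g = ((h' ⁻¹ᵁ W).ι ≫ F'.ι ≫ pullback.fst b.left g) ≫ b.left
    rw [← Category.assoc, morphismRestrict_ι]
    simp only [h', Category.assoc, pullback.condition])
  have sqP := IsPullback.of_hasPullback p ((yon S).map gW)
  let a₀ : (yon S).obj U₀ ⟶ pullback p ((yon S).map gW) :=
    pullback.lift ((yon S).map u₀ ≫ a) ((yon S).map ω) (by
      rw [Category.assoc, ← hb, ← Functor.map_comp, ← Functor.map_comp, hω])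
  have ha₀ : a₀ ≫ pullback.snd p ((yon S).map gW) = (yon S).map ω := pullback.lift_snd _ _ _
  have hgW : Etale gW.left := inferInstanceAs (Etale (W.ι ≫ g))
  have hP' : IsAlgSpace (pullback p ((yon S).map gW)) :=
    isAlgSpace_pullback hP (IsAlgSpace.yon_obj _) (IsAlgSpace.yon_obj _) _ _
  have he : RepWith @Etale a₀ := by
    have : Etale (pullback.fst b.left g) := MorphismProperty.pullback_fst (P := @Etale) _ _ hg
    refine repWith_etale_of_comp a₀ (pullback.fst p ((yon S).map gW)) ?_
      (repWith_fst p ((repWith_yon_map_iff _ _).2 hgW))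
    rw [pullback.lift_fst]
    exact repWith_comp ((repWith_yon_map_iff _ _).2
      (inferInstanceAs (Etale ((h' ⁻¹ᵁ W).ι ≫ F'.ι ≫ pullback.fst b.left g)))) ha
  have hω' : Surjective ω.left := ⟨fun z => by
    obtain ⟨x, hx⟩ := hWO z.2
    refine ⟨⟨x, show h' x ∈ W by rw [hx]; exact z.2⟩, Subtype.ext ?_⟩
    show (W.ι (hW₀ _) : V') = z.1
    rw [← Scheme.Hom.comp_apply, morphismRestrict_ι]
    exact hx⟩
  have hs : RepWith @Surjective a₀ := by
    refine repWith_surjective_of_surjective (hP'.representable_from_yon a₀) fun x => ?_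
    obtain ⟨z, hz⟩ := (surjective_map_of_repWith ((repWith_yon_map_iff _ _).2 hω'))
      (Points.map (pullback.snd p ((yon S).map gW)) x)
    refine ⟨z, (hh (IsAlgSpace.yon_obj _) _ _ _ sqP).injective ?_⟩
    rw [← hz, ← ha₀, Points.map_comp]
  have hint : RepWith @IsIntegralHom a₀ := by
    have hsep' : IsSeparatedMor (pullback.snd p ((yon S).map gW)) :=
      MorphismProperty.of_isPullback (P := (RepWith (S := S) @IsClosedImmersion).diagonal) sqP hsep
    refine of_comp_of_diagonal (RepWith @IsIntegralHom) a₀ (pullback.snd p ((yon S).map gW)) ?_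
      (repWith_mono (fun _ _ i (_ : IsClosedImmersion i) => inferInstanceAs (IsIntegralHom i)) _ hsep')
    rw [ha₀]
    exact (repWith_yon_map_iff _ _).2 (inferInstanceAs (IsIntegralHom hW₀))
  have hfin' : RepWith @IsFinite a₀ := ⟨hint.rep, fun T W g fst snd sq => by
    have h1 : IsIntegralHom snd.left := hint.property g fst snd sq
    have : Etale snd.left := he.property g fst snd sq
    exact (IsFinite.iff_isIntegralHom_and_locallyOfFiniteType snd.left).2 ⟨h1, inferInstance⟩⟩
  obtain ⟨Z, ⟨e⟩⟩ := AlgSpDec.exists_iso_of_affine_finite_etale a₀ he hfin' hs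
  obtain ⟨χ, hχ⟩ := (yon S).map_surjective (a₀ ≫ e.inv)
  have : IsFinite χ.left := (repWith_yon_map_iff _ _).1 (hχ ▸ repWith_comp hfin' (repWith_of_isIso _ _))
  have : Surjective χ.left := (repWith_yon_map_iff _ _).1 (hχ ▸ repWith_comp hs (repWith_of_isIso _ _))
  refine ⟨Y', gW, inferInstance, hgW, ?_, Z, LimMor.isAffine_of_surjective_universallyClosed χ.left, ⟨e⟩⟩
  refine ⟨⟨_, hvW⟩, ?_⟩
  show (W.ι ≫ g) _ = y
  rw [Scheme.Hom.comp_apply]
  show g ((pullback.snd π g) v.1) = y
  rw [← Scheme.Hom.comp_apply, ← pullback.condition, Scheme.Hom.comp_apply, hv, ← Scheme.Hom.comp_apply, hqπ]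
  exact hu

/-- A separated universal homeomorphism to an affine scheme is affine. -/
theorem isAffineMor_of_univHomeo [IsAffine Y.left] (hP : IsAlgSpace P) (hsep : IsSeparatedMor p)
    (hh : IsUnivHomeoMor p) : IsAffineMor p := by
  choose Y' g hY' hg hy Z hZ e using exists_etale_nhd_affine hP hsep hh
  obtain ⟨t, ht⟩ := isCompact_univ.elim_finite_subcover (fun y => Set.range (g y).left)
    (fun y => by have := hg y; exact (g y).left.isOpenMap.isOpen_range) fun y _ => Set.mem_iUnion.2 ⟨y, hy y⟩
  let ι : Type u := ↥t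
  let Yi : ι → Sp S := fun i => (yon S).obj (Y' i.1)
  let gi : ∀ i : ι, Yi i ⟶ (yon S).obj Y := fun i => (yon S).map (g i.1)
  have hcov : IsFpqcCover Yi gi := by
    refine ⟨fun i => ?_, fun T hT h => ?_⟩
    · have := hg i.1
      exact locP_of_repWith ((repWith_yon_map_iff @Flat (g i.1)).2 inferInstance)
    · obtain ⟨h, rfl⟩ := (yon S).map_surjective h
      have sq : ∀ y, IsPullback (pullback.fst (g y) h).left (pullback.snd (g y) h).left (g y).left h.left :=
        fun y => (IsPullback.of_hasPullback (g y) h).map (Over.forget S)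
      let idx : Fin t.card → ↥Y.left := fun j => (t.equivFin.symm j).1
      refine ⟨t.card, fun j => pullback (g (idx j)) h, fun j => pullback.snd (g (idx j)) h, fun j => ?_, fun j => ?_,
        fun z => ?_, fun j => ⟨t.equivFin.symm j, (yon S).map (pullback.fst (g (idx j)) h), ?_⟩⟩
      · have := hY' (idx j)
        have : IsAffineHom (pullback.snd (g (idx j)) h).left :=
          MorphismProperty.of_isPullback (P := @IsAffineHom) (sq (idx j))
            (inferInstance : IsAffineHom (g (idx j)).left)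
        exact isAffine_of_isAffineHom (pullback.snd (g (idx j)) h).left
      · have := hg (idx j)
        exact MorphismProperty.of_isPullback (P := @Flat) (sq (idx j)) (inferInstance : Flat (g (idx j)).left)
      · obtain ⟨y, hyt, z', hz'⟩ := Set.mem_iUnion₂.1 (ht (Set.mem_univ (h.left z)))
        obtain ⟨j, hj⟩ := t.equivFin.symm.surjective ⟨y, hyt⟩
        refine ⟨j, ?_⟩
        have hij : idx j = y := congrArg Subtype.val hj
        show z ∈ Set.range (pullback.snd (g (idx j)) h).left
        rw [hij]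
        obtain ⟨w, -, hw⟩ := Scheme.exists_preimage_of_isPullback (sq y) z' z hz'
        exact ⟨w, hw⟩
      · show (yon S).map _ ≫ (yon S).map (g (idx j)) = _
        rw [← Functor.map_comp, ← Functor.map_comp, pullback.condition]
  refine (isLocalOnBase_fpqc_isAffineMor Yi gi (IsAlgSpace.yon_obj _) (fun _ => IsAlgSpace.yon_obj _) hcov p hP
    (fun i => pullback p (gi i)) (fun i => pullback.snd p (gi i)) (fun i => pullback.fst p (gi i))
    (fun i => isAlgSpace_pullback hP (IsAlgSpace.yon_obj _) (IsAlgSpace.yon_obj _) _ _)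
    (fun i => IsPullback.of_hasPullback p (gi i))).2 fun i => ?_
  have := hY' i.1
  have := hZ i.1
  exact isAffineMor_to_yon _ (e i.1).some

/-- A separated universal homeomorphism of algebraic spaces is representable and integral. -/
theorem representable_and_integral (hF : IsAlgSpace F) (hG : IsAlgSpace G) {f : F ⟶ G}
    (hsep : IsSeparatedMor f) (hh : IsUnivHomeoMor f) : Representable f ∧ IsIntegralMor f := by
  have haff : IsAffineMor f := by
    intro Z hZ g
    have sqP := IsPullback.of_hasPullback f g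
    have hP : IsAlgSpace (pullback f g) := isAlgSpace_pullback hF (IsAlgSpace.yon_obj _) hG f g
    have h1 : IsSeparatedMor (pullback.snd f g) :=
      MorphismProperty.of_isPullback (P := (RepWith (S := S) @IsClosedImmersion).diagonal) sqP hsep
    have : IsAffine Z.left := hZ
    obtain ⟨W, i, fst, sq, hW⟩ := isAffineMor_of_univHomeo hP h1 (univSp_of_isPullback sqP hh) hZ (𝟙 _)
    refine ⟨W, i, fst ≫ pullback.fst f g, ?_, hW⟩
    have := sq.paste_horiz sqP
    rwa [Category.id_comp] at this
  have hr : Representable f := AlgSpDec.representable_of_isAffineMor haff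
  refine ⟨hr, AlgSpDec.isIntegralMor_iff_repWith.2 ⟨hr, fun T W g fst snd sq => ?_⟩⟩
  have h1 : IsAffineHom snd.left := (AlgSpDec.repWith_isAffineHom_of_isAffineMor haff).property g fst snd sq
  have h := repWith_universally_of_univSp (P := topologically @IsClosedMap)
    (Q := fun _ _ g => IsHomeomorph (Points.map g))
    (fun V U g hg => by
      show IsClosedMap g.left
      rw [left_eq_conj g]
      exact (Points.schemeHomeo U).symm.isClosedMap.comp (hg.isClosedMap.comp (Points.schemeHomeo V).isClosedMap))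
    hr hh
  exact IsIntegralHom.iff_universallyClosed_and_isAffineHom.2 ⟨⟨h.property g fst snd sq⟩, h1⟩

end Groth.Agent.AlgSpMS
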